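import Groth.Agent.Lib.FlatLimit.InjCoker
import Groth.Agent.Lib.FlatLimit.Global
import Groth.Agent.Lib.RegSeqLoc.Basic
import Groth.Agent.Lib.FlatModel.Descent
import Groth.Prelude.Def_RegImm
import Mathlib.RingTheory.TensorProduct.Quotient

/-!
# Transversally regular sequences along a colimit of base rings
-/

set_option autoImplicit false
set_option backward.isDefEq.respectTransparency false
set_option linter.all false
set_option maxHeartbeats 1000000

universe u v

open TensorProduct Function RingTheory.Sequence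

noncomputable section

namespace GrothLib.TransReg13

attribute [local instance] Algebra.TensorProduct.rightAlgebra

section

variable {B₀ : Type u} [CommRing B₀] (rs : List B₀)

/-- The ideal of the first `j` elements. -/
abbrev J (j : ℕ) : Ideal B₀ := Ideal.ofList (rs.take j)

theorem J_succ (j : ℕ) (hj : j < rs.length) : J rs (j + 1) = J rs j ⊔ Ideal.span {rs[j]} := by
  show Ideal.ofList (rs.take (j + 1)) = _
  rw [List.take_succ_eq_append_getElem hj, Ideal.ofList_append, Ideal.ofList_singleton]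

/-- Multiplication by the next element. -/
def uq (j : ℕ) (hj : j < rs.length) : (B₀ ⧸ J rs j) →ₗ[B₀] (B₀ ⧸ J rs j) := rs[j] • LinearMap.id

/-- The quotient by one more element. -/
def πq (j : ℕ) (hj : j < rs.length) : (B₀ ⧸ J rs j) →ₗ[B₀] (B₀ ⧸ J rs (j + 1)) :=
  Submodule.factor (by rw [J_succ rs j hj]; exact le_sup_left)

theorem exact_uq (j : ℕ) (hj : j < rs.length) : Exact (uq rs j hj) (πq rs j hj) := by
  intro x
  obtain ⟨x, rfl⟩ := Submodule.Quotient.mk_surjective _ x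
  show (Submodule.Quotient.mk x : B₀ ⧸ J rs (j + 1)) = 0 ↔ _
  rw [Submodule.Quotient.mk_eq_zero, J_succ rs j hj]
  constructor
  · intro h
    obtain ⟨a, ha, b, hb, rfl⟩ := Submodule.mem_sup.1 h
    obtain ⟨c, rfl⟩ := Ideal.mem_span_singleton'.1 hb
    refine ⟨Submodule.Quotient.mk c, ?_⟩
    show rs[j] • (Submodule.Quotient.mk c : B₀ ⧸ J rs j) = _
    rw [← Submodule.Quotient.mk_smul, Submodule.Quotient.eq, smul_eq_mul,
      show rs[j] * c - (a + c * rs[j]) = -a by ring]
    exact neg_mem ha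
  · rintro ⟨y, hy⟩
    obtain ⟨y, rfl⟩ := Submodule.Quotient.mk_surjective _ y
    change rs[j] • (Submodule.Quotient.mk y : B₀ ⧸ J rs j) = _ at hy
    rw [← Submodule.Quotient.mk_smul, Submodule.Quotient.eq, smul_eq_mul] at hy
    have hsum : -(rs[j] * y - x) + y * rs[j] ∈ J rs j ⊔ Ideal.span {rs[j]} :=
      Submodule.add_mem_sup (neg_mem hy) (Ideal.mem_span_singleton'.2 ⟨y, rfl⟩)
    rwa [show -(rs[j] * y - x) + y * rs[j] = x by ring] at hsum

theorem πq_surjective (j : ℕ) (hj : j < rs.length) : Surjective (πq rs j hj) :=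
  Submodule.factor_surjective (by rw [J_succ rs j hj]; exact le_sup_left)

instance finitePresentation_quot (j : ℕ) : Module.FinitePresentation B₀ (B₀ ⧸ J rs j) := by
  refine Module.finitePresentation_of_surjective _ (Submodule.mkQ_surjective _) ?_
  rw [Submodule.ker_mkQ]
  classical
  exact ⟨(rs.take j).toFinset, by rw [List.coe_toFinset]⟩

variable (BS : Type u) [CommRing BS] [Algebra B₀ BS]

/-- The base change of a partial quotient. -/
def qe (j : ℕ) : BS ⊗[B₀] (B₀ ⧸ J rs j) ≃ₗ[BS] BS ⧸ Ideal.ofList ((rs.map (algebraMap B₀ BS)).take j) :=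
  (Algebra.TensorProduct.quotIdealMapEquivTensorQuot BS (J rs j)).symm.toLinearEquiv ≪≫ₗ
    Submodule.quotEquivOfEq _ _ (by rw [Ideal.map_ofList, List.map_take])

theorem qe_uq (j : ℕ) (hj : j < rs.length) (z : BS ⊗[B₀] (B₀ ⧸ J rs j)) :
    qe rs BS j ((uq rs j hj).baseChange BS z) = algebraMap B₀ BS rs[j] • qe rs BS j z := by
  induction z using TensorProduct.induction_on with
  | zero => simp
  | add p q hp hq => simp only [map_add, smul_add, hp, hq]
  | tmul b m =>
    rw [← map_smul, LinearMap.baseChange_tmul]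
    congr 1
    show b ⊗ₜ[B₀] (rs[j] • m) = _
    rw [TensorProduct.smul_tmul', algebraMap_smul, TensorProduct.smul_tmul]

theorem injective_uq_iff (j : ℕ) (hj : j < rs.length) :
    Injective ((uq rs j hj).baseChange BS) ↔
      ∀ x : BS, algebraMap B₀ BS rs[j] * x ∈ Ideal.ofList ((rs.map (algebraMap B₀ BS)).take j) →
        x ∈ Ideal.ofList ((rs.map (algebraMap B₀ BS)).take j) := by
  rw [injective_iff_map_eq_zero]
  constructor
  · intro h x hx
    obtain ⟨z, hz⟩ := (qe rs BS j).surjective (Submodule.Quotient.mk x)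
    have : z = 0 := h z ((qe rs BS j).injective (by
      rw [qe_uq, hz, map_zero, ← Submodule.Quotient.mk_smul, Submodule.Quotient.mk_eq_zero]
      exact hx))
    rw [this, map_zero] at hz
    exact (Submodule.Quotient.mk_eq_zero _).1 hz.symm
  · intro h z hz
    obtain ⟨x, hx⟩ := Submodule.Quotient.mk_surjective _ (qe rs BS j z)
    refine (qe rs BS j).injective ?_
    rw [map_zero, ← hx, Submodule.Quotient.mk_eq_zero]
    refine h x ?_
    have h0 := qe_uq rs BS j hj z
    rw [hz, map_zero, ← hx, ← Submodule.Quotient.mk_smul] at h0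
    exact (Submodule.Quotient.mk_eq_zero _).1 h0.symm

variable (S : Type u) [CommRing S] [Algebra S BS] [SMulCommClass B₀ S BS]

theorem flat_quot_iff (j : ℕ) :
    Module.Flat S (BS ⊗[B₀] (B₀ ⧸ J rs j)) ↔
      Module.Flat S (BS ⧸ Ideal.ofList ((rs.map (algebraMap B₀ BS)).take j)) := by
  haveI : IsScalarTower S BS (BS ⊗[B₀] (B₀ ⧸ J rs j)) := TensorProduct.isScalarTower_left
  exact ⟨fun _ => Module.Flat.of_linearEquiv ((qe rs BS j).restrictScalars S).symm,
    fun _ => Module.Flat.of_linearEquiv ((qe rs BS j).restrictScalars S)⟩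

theorem isTransRegularSeq_iff :
    RegImm.IsTransRegularSeq S BS (rs.map (algebraMap B₀ BS)) ↔
      (∀ j (hj : j < rs.length), Injective ((uq rs j hj).baseChange BS)) ∧
        ∀ j, j ≤ rs.length → Module.Flat S (BS ⊗[B₀] (B₀ ⧸ J rs j)) := by
  show _ ∧ _ ↔ _
  rw [GrothLib.RegSeqLoc.isWeaklyRegular_iff_mem]
  refine and_congr ⟨fun h j hj => (injective_uq_iff rs BS j hj).2 fun x hx => ?_,
    fun h j hj x hx => ?_⟩ ⟨fun h j hj => (flat_quot_iff rs BS S j).2 (h j (by simpa using hj)),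
      fun h j hj => (flat_quot_iff rs BS S j).1 (h j (by simpa using hj))⟩
  · exact h j (by simpa using hj) x (by rw [List.getElem_map]; exact hx)
  · rw [List.getElem_map] at hx
    exact (injective_uq_iff rs BS j (by simpa using hj)).1 (h j (by simpa using hj)) x hx

end

section BaseChange

variable {A₀ B₀ S T BS BT : Type u} [CommRing A₀] [CommRing B₀] [CommRing S] [CommRing T]
  [CommRing BS] [CommRing BT] [Algebra A₀ B₀] [Algebra A₀ S] [Algebra A₀ T] [Algebra S T]
  [IsScalarTower A₀ S T] [Algebra A₀ BS] [Algebra S BS] [Algebra B₀ BS] [IsScalarTower A₀ S BS]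
  [IsScalarTower A₀ B₀ BS] [Algebra.IsPushout A₀ S B₀ BS]
  [Algebra A₀ BT] [Algebra T BT] [Algebra B₀ BT] [IsScalarTower A₀ T BT]
  [IsScalarTower A₀ B₀ BT] [Algebra.IsPushout A₀ T B₀ BT]

include A₀

theorem flat_of_stage {M₀ : Type u} [AddCommGroup M₀] [Module B₀ M₀] [Module A₀ M₀] [IsScalarTower A₀ B₀ M₀]
    [SMulCommClass B₀ S BS] [SMulCommClass B₀ T BT]
    [Module.Flat S (BS ⊗[B₀] M₀)] : Module.Flat T (BT ⊗[B₀] M₀) := by
  haveI : Module.Flat S (S ⊗[A₀] M₀) :=
    Module.Flat.of_linearEquiv (Algebra.IsPushout.cancelBaseChange A₀ S B₀ BS M₀).symm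
  haveI : Module.Flat T (T ⊗[A₀] M₀) :=
    Module.Flat.of_linearEquiv (TensorProduct.AlgebraTensorModule.cancelBaseChange A₀ S T T M₀).symm
  exact Module.Flat.of_linearEquiv (Algebra.IsPushout.cancelBaseChange A₀ T B₀ BT M₀)

/-- Transversal regularity is preserved by base change. -/
theorem isTransRegularSeq_baseChange [SMulCommClass B₀ S BS] [SMulCommClass B₀ T BT]
    (β : BS →+* BT) (hβS : ∀ s, β (algebraMap S BS s) = algebraMap T BT (algebraMap S T s))
    (hβB : ∀ b, β (algebraMap B₀ BS b) = algebraMap B₀ BT b) (rs : List B₀)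
    (h : RegImm.IsTransRegularSeq S BS (rs.map (algebraMap B₀ BS))) :
    RegImm.IsTransRegularSeq T BT (rs.map (algebraMap B₀ BT)) := by
  rw [isTransRegularSeq_iff] at h ⊢
  obtain ⟨hinj, hfl⟩ := h
  refine ⟨fun j hj => ?_, fun j hj => ?_⟩
  · rw [injective_iff_map_eq_zero]
    intro z hz
    by_contra hne
    let K : Ideal BT := Submodule.comap (LinearMap.toSpanSingleton BT _ z) ⊥
    have hK : K ≠ ⊤ := fun ht => hne ((one_smul BT z).symm.trans ((Submodule.mem_bot BT).1 ((Ideal.eq_top_iff_one K).1 ht)))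
    obtain ⟨q, hq, hKq⟩ := Ideal.exists_le_maximal K hK
    haveI := hfl (j + 1) hj
    haveI : IsScalarTower S BS (BS ⊗[B₀] (B₀ ⧸ J rs (j + 1))) := TensorProduct.isScalarTower_left
    obtain ⟨t, ht, htz⟩ := FlatLimit.inj_at_of_stage (A₀ := A₀) (S := S) (T := T) β hβS hβB
      (uq rs j hj) (πq rs j hj) (exact_uq rs j hj) (πq_surjective rs j hj) q
      (FlatModel.flat_localizedModule _)
      (fun w hw => ⟨1, fun h1 => (inferInstance : (q.comap β).IsPrime).ne_top ((Ideal.eq_top_iff_one _).2 h1),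
        by rw [one_smul]; exact (injective_iff_map_eq_zero _).1 (hinj j hj) w hw⟩) z hz
    exact ht (hKq ((Submodule.mem_bot BT).2 htz))
  · haveI := hfl j hj
    exact flat_of_stage (A₀ := A₀) (S := S) (T := T) (BS := BS)

end BaseChange

section Stage

variable {A₀ A B₀ : Type u} [CommRing A₀] [CommRing A] [CommRing B₀] [Algebra A₀ A] [Algebra A₀ B₀]
  [Algebra.FinitePresentation A₀ B₀]
  {ι : Type v} [Nonempty ι] (G : ι → Type u) [∀ i, CommRing (G i)] [∀ i, Algebra A₀ (G i)]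
  [∀ i, Algebra (G i) A] [∀ i, IsScalarTower A₀ (G i) A]
  (hdir : ∀ i i' : ι, ∃ j, ∃ (φ : G i →ₐ[A₀] G j) (φ' : G i' →ₐ[A₀] G j),
    (∀ x, algebraMap (G j) A (φ x) = algebraMap (G i) A x) ∧
    ∀ x, algebraMap (G j) A (φ' x) = algebraMap (G i') A x)
  (hlift : ∀ T : Finset A, ∃ i, (T : Set A) ⊆ Set.range (algebraMap (G i) A))
  (heq : ∀ i (p : Finset (G i × G i)),
    (∀ x ∈ p, algebraMap (G i) A x.1 = algebraMap (G i) A x.2) →
    ∃ j, ∃ ψ : G i →ₐ[A₀] G j, (∀ x, algebraMap (G j) A (ψ x) = algebraMap (G i) A x) ∧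
      ∀ x ∈ p, ψ x.1 = ψ x.2)

include hdir hlift heq

/-- Vanishing of an element of a base change comes from a stage. -/
theorem exists_stage_zero {N₀ : Type u} [AddCommGroup N₀] [Module B₀ N₀] [Module A₀ N₀]
    [IsScalarTower A₀ B₀ N₀] (l : ι) (y : (G l ⊗[A₀] B₀) ⊗[B₀] N₀)
    (hy : FlatLimit.baseMap (FlatLimit.toLimit A G l).toRingHom
      (fun x => by show FlatLimit.toLimit A G l ((1 : G l) ⊗ₜ x) = (1 : A) ⊗ₜ x; simp [FlatLimit.toLimit]) N₀ y = 0) :
    ∃ l', ∃ ψ : G l →ₐ[A₀] G l', (∀ x, algebraMap (G l') A (ψ x) = algebraMap (G l) A x) ∧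
      FlatLimit.baseMap (Algebra.TensorProduct.map ψ (AlgHom.id A₀ B₀)).toRingHom
        (fun x => by show Algebra.TensorProduct.map ψ (AlgHom.id A₀ B₀) ((1 : G l) ⊗ₜ x) = (1 : G l') ⊗ₜ x; simp)
        N₀ y = 0 := by
  let e := Algebra.IsPushout.cancelBaseChange A₀ (G l) B₀ (G l ⊗[A₀] B₀) N₀
  let eA := Algebra.IsPushout.cancelBaseChange A₀ A B₀ (A ⊗[A₀] B₀) N₀
  have hcomm : ∀ w : G l ⊗[A₀] N₀,
      FlatLimit.baseMap (FlatLimit.toLimit A G l).toRingHom
        (fun x => by show FlatLimit.toLimit A G l ((1 : G l) ⊗ₜ x) = (1 : A) ⊗ₜ x; simp [FlatLimit.toLimit]) N₀ (e.symm w) =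
      eA.symm ((IsScalarTower.toAlgHom A₀ (G l) A).toLinearMap.rTensor N₀ w) := fun w => by
    induction w using TensorProduct.induction_on with
    | zero => simp
    | add p q hp hq => simp only [map_add, hp, hq]
    | tmul g n => simp [e, eA, FlatLimit.toLimit]
  obtain ⟨l', ψ, hψ, h0⟩ := FlatLimit.exists_stage_tmul_eq_zero G hdir hlift heq l (e y) (by
    apply eA.symm.injective
    rw [← hcomm, e.symm_apply_apply, hy, map_zero])
  refine ⟨l', ψ, hψ, ?_⟩
  let e' := Algebra.IsPushout.cancelBaseChange A₀ (G l') B₀ (G l' ⊗[A₀] B₀) N₀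
  have hcomm' : ∀ w : G l ⊗[A₀] N₀,
      FlatLimit.baseMap (Algebra.TensorProduct.map ψ (AlgHom.id A₀ B₀)).toRingHom
        (fun x => by show Algebra.TensorProduct.map ψ (AlgHom.id A₀ B₀) ((1 : G l) ⊗ₜ x) = (1 : G l') ⊗ₜ x; simp)
        N₀ (e.symm w) = e'.symm (ψ.toLinearMap.rTensor N₀ w) := fun w => by
    induction w using TensorProduct.induction_on with
    | zero => simp
    | add p q hp hq => simp only [map_add, hp, hq]
    | tmul g n => simp [e, e']
  rw [← e.symm_apply_apply y, hcomm', h0, map_zero]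

omit hdir hlift heq in
theorem trans_up (rs : List B₀) {a b : ι} (θ : G a →ₐ[A₀] G b)
    (h : RegImm.IsTransRegularSeq (G a) (G a ⊗[A₀] B₀) (rs.map (algebraMap B₀ (G a ⊗[A₀] B₀)))) :
    RegImm.IsTransRegularSeq (G b) (G b ⊗[A₀] B₀) (rs.map (algebraMap B₀ (G b ⊗[A₀] B₀))) := by
  letI : Algebra (G a) (G b) := θ.toRingHom.toAlgebra
  haveI : IsScalarTower A₀ (G a) (G b) := IsScalarTower.of_algebraMap_eq fun x => (θ.commutes x).symm
  refine isTransRegularSeq_baseChange (A₀ := A₀) (S := G a) (T := G b)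
    (Algebra.TensorProduct.map θ (AlgHom.id A₀ B₀)).toRingHom (fun s => ?_) (fun x => ?_) rs h
  · show Algebra.TensorProduct.map θ (AlgHom.id A₀ B₀) (s ⊗ₜ 1) = θ s ⊗ₜ 1
    simp
  · show Algebra.TensorProduct.map θ (AlgHom.id A₀ B₀) ((1 : G a) ⊗ₜ x) = (1 : G b) ⊗ₜ x
    simp

/-- **Transversal regularity comes from a stage.** -/
theorem exists_stage (rs : List B₀)
    (h : RegImm.IsTransRegularSeq A (A ⊗[A₀] B₀) (rs.map (algebraMap B₀ (A ⊗[A₀] B₀)))) :
    ∃ i, RegImm.IsTransRegularSeq (G i) (G i ⊗[A₀] B₀) (rs.map (algebraMap B₀ (G i ⊗[A₀] B₀))) := by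
  classical
  obtain ⟨hinj, hfl⟩ := (isTransRegularSeq_iff rs (A ⊗[A₀] B₀) A).1 h
  -- flatness of the partial quotients
  have hF : ∀ j, j ≤ rs.length → ∃ i, Module.Flat (G i) ((G i ⊗[A₀] B₀) ⊗[B₀] (B₀ ⧸ J rs j)) := fun j hj => by
    haveI := hfl j hj
    haveI : Module.Flat A (A ⊗[A₀] (B₀ ⧸ J rs j)) :=
      Module.Flat.of_linearEquiv (Algebra.IsPushout.cancelBaseChange A₀ A B₀ (A ⊗[A₀] B₀) (B₀ ⧸ J rs j)).symm
    obtain ⟨i, hi⟩ := FlatLimit.exists_stage_flat G hdir hlift heq B₀ (B₀ ⧸ J rs j)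
    haveI := hi
    exact ⟨i, Module.Flat.of_linearEquiv (Algebra.IsPushout.cancelBaseChange A₀ (G i) B₀ (G i ⊗[A₀] B₀) (B₀ ⧸ J rs j))⟩
  choose iF hiF using fun j : Fin (rs.length + 1) => hF j.1 (by omega)
  obtain ⟨i, hi⟩ := FlatLimit.exists_common G hdir (Finset.univ.image iF)
  have hflat : ∀ {k} (θ : G i →ₐ[A₀] G k) (j), j ≤ rs.length →
      Module.Flat (G k) ((G k ⊗[A₀] B₀) ⊗[B₀] (B₀ ⧸ J rs j)) := fun {k} θ j hj => by
    let jF : Fin (rs.length + 1) := ⟨j, by omega⟩
    obtain ⟨φ, -⟩ := hi (iF jF) (Finset.mem_image_of_mem _ (Finset.mem_univ _))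
    letI : Algebra (G (iF jF)) (G k) := (θ.comp φ).toRingHom.toAlgebra
    haveI : IsScalarTower A₀ (G (iF jF)) (G k) :=
      IsScalarTower.of_algebraMap_eq fun x => ((θ.comp φ).commutes x).symm
    haveI : Module.Flat (G (iF jF)) ((G (iF jF) ⊗[A₀] B₀) ⊗[B₀] (B₀ ⧸ J rs j)) := hiF jF
    exact flat_of_stage (A₀ := A₀) (S := G (iF jF)) (T := G k) (BS := G (iF jF) ⊗[A₀] B₀)
  -- injectivity, one index at a time
  suffices hsuf : ∀ n, n ≤ rs.length → ∃ k, ∃ θ : G i →ₐ[A₀] G k,
      (∀ x, algebraMap (G k) A (θ x) = algebraMap (G i) A x) ∧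
      ∀ j (hj : j < rs.length), j < n → Injective ((uq rs j hj).baseChange (G k ⊗[A₀] B₀)) by
    obtain ⟨k, θ, -, hk⟩ := hsuf rs.length le_rfl
    exact ⟨k, (isTransRegularSeq_iff rs _ _).2 ⟨fun j hj => hk j hj hj, hflat θ⟩⟩
  intro n
  induction n with
  | zero => exact fun _ => ⟨i, AlgHom.id A₀ _, fun _ => rfl, fun j _ h => absurd h (by omega)⟩
  | succ n ih =>
    intro hn
    obtain ⟨k, θ, hθ, hk⟩ := ih (by omega)
    let Bk := G k ⊗[A₀] B₀
    haveI : Module.Flat (G k) (Bk ⊗[B₀] (B₀ ⧸ J rs (n + 1))) := hflat θ (n + 1) hn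
    haveI : IsScalarTower (G k) Bk (Bk ⊗[B₀] (B₀ ⧸ J rs (n + 1))) := TensorProduct.isScalarTower_left
    obtain ⟨kk, hk0, hker⟩ := FlatFP.exists_fg_ker_away (A := G k) ((uq rs n hn).baseChange Bk)
      ((πq rs n hn).baseChange Bk) (lTensor_exact Bk (exact_uq rs n hn) (πq_surjective rs n hn))
      (LinearMap.lTensor_surjective Bk (πq_surjective rs n hn)) 1
      (fun q _ _ => FlatModel.flat_localizedModule _)
    have limB : ∀ (a : ι) (x : B₀),
        (FlatLimit.toLimit A G a).toRingHom (algebraMap B₀ (G a ⊗[A₀] B₀) x) = algebraMap B₀ (A ⊗[A₀] B₀) x :=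
      fun a x => by
        show FlatLimit.toLimit A G a ((1 : G a) ⊗ₜ x) = (1 : A) ⊗ₜ x
        simp [FlatLimit.toLimit]
    have trB : ∀ {a b : ι} (ψ : G a →ₐ[A₀] G b) (x : B₀),
        (Algebra.TensorProduct.map ψ (AlgHom.id A₀ B₀)).toRingHom (algebraMap B₀ (G a ⊗[A₀] B₀) x) =
          algebraMap B₀ (G b ⊗[A₀] B₀) x := fun ψ x => by
      show Algebra.TensorProduct.map ψ (AlgHom.id A₀ B₀) ((1 : G _) ⊗ₜ x) = (1 : G _) ⊗ₜ x
      simp
    -- the generators die at a later stage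
    have hkill : ∀ s : Finset ((Bk ⊗[B₀] (B₀ ⧸ J rs n))), (∀ x ∈ s, (uq rs n hn).baseChange Bk x = 0) →
        ∃ l, ∃ ψ : G k →ₐ[A₀] G l, (∀ y, algebraMap (G l) A (ψ y) = algebraMap (G k) A y) ∧
          ∀ x ∈ s, FlatLimit.baseMap (Algebra.TensorProduct.map ψ (AlgHom.id A₀ B₀)).toRingHom (trB ψ) _ x = 0 := by
      intro s
      induction s using Finset.induction_on with
      | empty => exact fun _ => ⟨k, AlgHom.id A₀ _, fun _ => rfl, by simp⟩
      | insert x s _ ih' =>
        intro hs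
        obtain ⟨l, ψ, hψ, hψs⟩ := ih' fun y hy => hs y (Finset.mem_insert_of_mem hy)
        let y := FlatLimit.baseMap (Algebra.TensorProduct.map ψ (AlgHom.id A₀ B₀)).toRingHom (trB ψ) _ x
        have hy : FlatLimit.baseMap (FlatLimit.toLimit A G l).toRingHom (limB l) _ y = 0 := by
          refine (injective_iff_map_eq_zero _).1 (hinj n hn) _ ?_
          rw [FlatLimit.baseMap_baseChange, FlatLimit.baseMap_baseChange, hs x (Finset.mem_insert_self x s),
            map_zero, map_zero]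
        obtain ⟨l', ψ', hψ', h0⟩ := exists_stage_zero G hdir hlift heq l y hy
        have hcompψ : ∀ w : Bk ⊗[B₀] (B₀ ⧸ J rs n),
            FlatLimit.baseMap (Algebra.TensorProduct.map (ψ'.comp ψ) (AlgHom.id A₀ B₀)).toRingHom (trB _) _ w =
              FlatLimit.baseMap (Algebra.TensorProduct.map ψ' (AlgHom.id A₀ B₀)).toRingHom (trB ψ') _
                (FlatLimit.baseMap (Algebra.TensorProduct.map ψ (AlgHom.id A₀ B₀)).toRingHom (trB ψ) _ w) := fun w => by
          induction w using TensorProduct.induction_on with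
          | zero => simp
          | add p q hp hq => simp only [map_add, hp, hq]
          | tmul b m =>
            simp only [FlatLimit.baseMap_tmul]
            congr 1
            show Algebra.TensorProduct.map (ψ'.comp ψ) (AlgHom.id A₀ B₀) b =
              Algebra.TensorProduct.map ψ' (AlgHom.id A₀ B₀) (Algebra.TensorProduct.map ψ (AlgHom.id A₀ B₀) b)
            induction b using TensorProduct.induction_on with
            | zero => simp
            | add p q hp hq => simp only [map_add, hp, hq]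
            | tmul g c => simp
        refine ⟨l', ψ'.comp ψ, fun y => (hψ' _).trans (hψ y), fun x' hx' => ?_⟩
        rw [hcompψ]
        rcases Finset.mem_insert.1 hx' with rfl | hx'
        · exact h0
        · rw [hψs x' hx', map_zero]
    obtain ⟨l, ψ, hψ, hψs⟩ := hkill kk hk0
    refine ⟨l, ψ.comp θ, fun x => (hψ _).trans (hθ x), fun j hj hjn => ?_⟩
    letI : Algebra (G k) (G l) := ψ.toRingHom.toAlgebra
    haveI : IsScalarTower A₀ (G k) (G l) := IsScalarTower.of_algebraMap_eq fun x => (ψ.commutes x).symm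
    let β := (Algebra.TensorProduct.map ψ (AlgHom.id A₀ B₀)).toRingHom
    have hβS : ∀ x, β (algebraMap (G k) Bk x) = algebraMap (G l) (G l ⊗[A₀] B₀) (algebraMap (G k) (G l) x) := fun x => by
      show Algebra.TensorProduct.map ψ (AlgHom.id A₀ B₀) (x ⊗ₜ 1) = ψ x ⊗ₜ 1
      simp
    rw [injective_iff_map_eq_zero]
    intro z hz
    by_contra hne
    let K : Ideal (G l ⊗[A₀] B₀) := Submodule.comap (LinearMap.toSpanSingleton _ _ z) ⊥
    have hK : K ≠ ⊤ := fun ht => hne ((one_smul (G l ⊗[A₀] B₀) z).symm.trans ((Submodule.mem_bot (G l ⊗[A₀] B₀)).1 ((Ideal.eq_top_iff_one K).1 ht)))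
    obtain ⟨q, hq, hKq⟩ := Ideal.exists_le_maximal K hK
    haveI hflj : Module.Flat (G k) (Bk ⊗[B₀] (B₀ ⧸ J rs (j + 1))) := hflat θ (j + 1) hj
    haveI : IsScalarTower (G k) Bk (Bk ⊗[B₀] (B₀ ⧸ J rs (j + 1))) := TensorProduct.isScalarTower_left
    rcases Nat.lt_succ_iff_lt_or_eq.1 hjn with hlt | rfl
    · obtain ⟨t, ht, htz⟩ := FlatLimit.inj_at_of_stage (A₀ := A₀) (S := G k) (T := G l) β hβS (trB ψ)
        (uq rs j hj) (πq rs j hj) (exact_uq rs j hj) (πq_surjective rs j hj) q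
        (FlatModel.flat_localizedModule _)
        (fun w hw => ⟨1, fun h1 => (inferInstance : (q.comap β).IsPrime).ne_top ((Ideal.eq_top_iff_one _).2 h1),
          by rw [one_smul]; exact (injective_iff_map_eq_zero _).1 (hk j hj hlt) w hw⟩) z hz
      exact ht (hKq ((Submodule.mem_bot (G l ⊗[A₀] B₀)).2 htz))
    · obtain ⟨t, ht, htz⟩ := FlatLimit.exists_smul_mem_span_baseMap (A₀ := A₀) β hβS (trB ψ) (uq rs j hj)
        (πq rs j hj) (exact_uq rs j hj) (πq_surjective rs j hj) (q.comap β) (FlatModel.flat_localizedModule _)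
        (kk : Set _) (fun w hw => by
          obtain ⟨m, hm⟩ := hker w hw
          rw [one_pow] at hm
          exact ⟨1, fun h1 => (inferInstance : (q.comap β).IsPrime).ne_top ((Ideal.eq_top_iff_one _).2 h1), hm⟩) z hz
      have h0 : β t • z = 0 := by
        refine (Submodule.span_le (p := ⊥)).2 ?_ htz
        rintro _ ⟨x, hx, rfl⟩
        exact hψs x hx
      exact ht (hKq ((Submodule.mem_bot (G l ⊗[A₀] B₀)).2 h0))

end Stage

end GrothLib.TransReg13
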