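import Groth.Agent.Lib.TransReg13.Algebra
import Groth.Agent.Lib.FlatLimit.Vanish
import Mathlib.RingTheory.TensorProduct.Quotient

/-!
# Equations along a colimit of base rings
-/

set_option autoImplicit false
set_option backward.isDefEq.respectTransparency false
set_option linter.all false
set_option maxHeartbeats 1000000

universe u v

open TensorProduct

noncomputable section

namespace GrothLib.TransReg13

attribute [local instance] Algebra.TensorProduct.rightAlgebra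

variable {A₀ A B₀ : Type u} [CommRing A₀] [CommRing A] [CommRing B₀] [Algebra A₀ A] [Algebra A₀ B₀]

/-- An element lies in an extended ideal iff its class dies in the base change of the quotient. -/
theorem mem_map_iff_tmul_eq_zero (R : Type u) [CommRing R] [Algebra A₀ R] (J : Ideal B₀) (b : B₀) :
    algebraMap B₀ (R ⊗[A₀] B₀) b ∈ J.map (algebraMap B₀ (R ⊗[A₀] B₀)) ↔
      (1 : R) ⊗ₜ[A₀] (Ideal.Quotient.mk J b) = 0 := by
  let e := Algebra.TensorProduct.tensorQuotientEquiv (R := A₀) R B₀ R J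
  have h : e ((1 : R) ⊗ₜ[A₀] (Ideal.Quotient.mk J b)) =
      Ideal.Quotient.mk (J.map (Algebra.TensorProduct.includeRight (A := R) (R := A₀))) ((1 : R) ⊗ₜ b) :=
    Algebra.TensorProduct.tensorQuotientEquiv_apply_tmul R B₀ R J 1 b
  rw [← e.injective.eq_iff, map_zero, h, Ideal.Quotient.eq_zero_iff_mem]
  rfl

variable {ι : Type v} [Nonempty ι] (G : ι → Type u) [∀ i, CommRing (G i)] [∀ i, Algebra A₀ (G i)]
  [∀ i, Algebra (G i) A] [∀ i, IsScalarTower A₀ (G i) A]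
  (hdir : ∀ i i' : ι, ∃ j, ∃ (φ : G i →ₐ[A₀] G j) (φ' : G i' →ₐ[A₀] G j),
    (∀ x, algebraMap (G j) A (φ x) = algebraMap (G i) A x) ∧
    ∀ x, algebraMap (G j) A (φ' x) = algebraMap (G i') A x)
  (hlift : ∀ T : Finset A, ∃ i, (T : Set A) ⊆ Set.range (algebraMap (G i) A))
  (heq : ∀ i (p : Finset (G i × G i)),
    (∀ x ∈ p, algebraMap (G i) A x.1 = algebraMap (G i) A x.2) →
    ∃ j, ∃ ψ : G i →ₐ[A₀] G j, (∀ x, algebraMap (G j) A (ψ x) = algebraMap (G i) A x) ∧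
      ∀ x ∈ p, ψ x.1 = ψ x.2)

omit [Nonempty ι] [∀ i, Algebra (G i) A] [∀ i, IsScalarTower A₀ (G i) A] in
theorem map_algebraMap_tensor {a b : ι} (θ : G a →ₐ[A₀] G b) (I : Ideal B₀) :
    (I.map (algebraMap B₀ (G a ⊗[A₀] B₀))).map (Algebra.TensorProduct.map θ (AlgHom.id A₀ B₀)).toRingHom =
      I.map (algebraMap B₀ (G b ⊗[A₀] B₀)) := by
  rw [Ideal.map_map]
  congr 1
  refine RingHom.ext fun x => ?_
  show Algebra.TensorProduct.map θ (AlgHom.id A₀ B₀) ((1 : G a) ⊗ₜ x) = (1 : G b) ⊗ₜ x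
  simp

include hdir hlift heq

theorem exists_stage_mem (J : Ideal B₀) (b : B₀)
    (h : algebraMap B₀ (A ⊗[A₀] B₀) b ∈ J.map (algebraMap B₀ (A ⊗[A₀] B₀))) :
    ∃ i, algebraMap B₀ (G i ⊗[A₀] B₀) b ∈ J.map (algebraMap B₀ (G i ⊗[A₀] B₀)) := by
  let l := Classical.arbitrary ι
  obtain ⟨i, ψ, -, h0⟩ := FlatLimit.exists_stage_tmul_eq_zero G hdir hlift heq l
    ((1 : G l) ⊗ₜ[A₀] (Ideal.Quotient.mk J b)) (by
      rw [LinearMap.rTensor_tmul]
      show algebraMap (G l) A 1 ⊗ₜ[A₀] (Ideal.Quotient.mk J b) = 0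
      rw [map_one]
      exact (mem_map_iff_tmul_eq_zero A J b).1 h)
  refine ⟨i, (mem_map_iff_tmul_eq_zero (G i) J b).2 ?_⟩
  rw [LinearMap.rTensor_tmul] at h0
  change ψ 1 ⊗ₜ[A₀] (Ideal.Quotient.mk J b) = 0 at h0
  rwa [map_one] at h0

/-- An inclusion of ideals with finitely generated source comes from a stage. -/
theorem exists_stage_ideal_le (I J : Ideal B₀) (hI : I.FG)
    (h : I.map (algebraMap B₀ (A ⊗[A₀] B₀)) ≤ J.map (algebraMap B₀ (A ⊗[A₀] B₀))) :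
    ∃ i, I.map (algebraMap B₀ (G i ⊗[A₀] B₀)) ≤ J.map (algebraMap B₀ (G i ⊗[A₀] B₀)) := by
  classical
  obtain ⟨s, rfl⟩ := hI
  choose k hk using fun b : {b // b ∈ s} => exists_stage_mem G hdir hlift heq J b.1
    (h (Ideal.mem_map_of_mem _ (Ideal.subset_span b.2)))
  obtain ⟨i, hi⟩ := FlatLimit.exists_common G hdir (s.attach.image k)
  refine ⟨i, ?_⟩
  rw [Ideal.map_le_iff_le_comap, Ideal.span_le]
  intro b hb
  obtain ⟨φ, -⟩ := hi (k ⟨b, hb⟩) (Finset.mem_image_of_mem k (Finset.mem_attach _ _))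
  rw [SetLike.mem_coe, Ideal.mem_comap, ← map_algebraMap_tensor G φ J]
  have h1 := Ideal.mem_map_of_mem (Algebra.TensorProduct.map φ (AlgHom.id A₀ B₀)).toRingHom (hk ⟨b, hb⟩)
  convert h1 using 1
  show (1 : G i) ⊗ₜ b = Algebra.TensorProduct.map φ (AlgHom.id A₀ B₀) ((1 : G (k ⟨b, hb⟩)) ⊗ₜ b)
  simp

/-- **A transversally regular sequence of equations comes from a stage.** -/
theorem exists_stage_equations [Algebra.FinitePresentation A₀ B₀] (rs : List B₀) (I : Ideal B₀) (hI : I.FG)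
    (h : RegImm.IsTransRegularSeq A (A ⊗[A₀] B₀) (rs.map (algebraMap B₀ (A ⊗[A₀] B₀))))
    (hId : I.map (algebraMap B₀ (A ⊗[A₀] B₀)) = Ideal.ofList (rs.map (algebraMap B₀ (A ⊗[A₀] B₀)))) :
    ∃ i, RegImm.IsTransRegularSeq (G i) (G i ⊗[A₀] B₀) (rs.map (algebraMap B₀ (G i ⊗[A₀] B₀))) ∧
      I.map (algebraMap B₀ (G i ⊗[A₀] B₀)) = Ideal.ofList (rs.map (algebraMap B₀ (G i ⊗[A₀] B₀))) := by
  classical
  rw [← Ideal.map_ofList] at hId
  have hJ : (Ideal.ofList rs).FG := ⟨rs.toFinset, by rw [List.coe_toFinset]⟩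
  obtain ⟨i₁, h₁⟩ := exists_stage G hdir hlift heq rs h
  obtain ⟨i₂, h₂⟩ := exists_stage_ideal_le G hdir hlift heq I (Ideal.ofList rs) hI hId.le
  obtain ⟨i₃, h₃⟩ := exists_stage_ideal_le G hdir hlift heq (Ideal.ofList rs) I hJ hId.ge
  obtain ⟨i, hi⟩ := FlatLimit.exists_common G hdir {i₁, i₂, i₃}
  obtain ⟨φ₁, -⟩ := hi i₁ (by simp)
  obtain ⟨φ₂, -⟩ := hi i₂ (by simp)
  obtain ⟨φ₃, -⟩ := hi i₃ (by simp)
  refine ⟨i, trans_up G rs φ₁ h₁, ?_⟩
  rw [← Ideal.map_ofList]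
  refine le_antisymm ?_ ?_
  · rw [← map_algebraMap_tensor G φ₂ I, ← map_algebraMap_tensor G φ₂ (Ideal.ofList rs)]
    exact Ideal.map_mono h₂
  · rw [← map_algebraMap_tensor G φ₃ I, ← map_algebraMap_tensor G φ₃ (Ideal.ofList rs)]
    exact Ideal.map_mono h₃

end GrothLib.TransReg13
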