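import Groth.Agent.Lib.TransReg13.Limit
import Groth.Agent.Lib.LimReg10.Immersion

/-!
# Transversally regular immersions along limits of schemes
-/

set_option autoImplicit false
set_option backward.isDefEq.respectTransparency false
set_option linter.all false
set_option maxHeartbeats 2000000

universe u

open CategoryTheory Limits AlgebraicGeometry TopologicalSpace TensorProduct

noncomputable section

namespace GrothLib.TransReg13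

attribute [local instance] Algebra.TensorProduct.rightAlgebra

section Square

variable {X₀ S₀ Xi Si : Scheme.{u}} {f₀ : X₀ ⟶ S₀} {fi : Xi ⟶ Si} {pS : Si ⟶ S₀} {pX : Xi ⟶ X₀}
  (sq : IsPullback pX fi f₀ pS) {V₀ : S₀.Opens} {Vi : Si.Opens} {U₀ : X₀.Opens}
  (eV : Vi ≤ pS ⁻¹ᵁ V₀) (eU : U₀ ≤ f₀ ⁻¹ᵁ V₀)
  (hV₀ : IsAffineOpen V₀) (hVi : IsAffineOpen Vi) (hU₀ : IsAffineOpen U₀)

include sq eV hV₀ hVi hU₀ in
/-- Transversally regular sequences over affine charts pass to a base change. -/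
theorem transSeq_of_square (rs : List Γ(X₀, U₀))
    (h : @RegImm.IsTransRegularSeq Γ(S₀, V₀) Γ(X₀, U₀) _ _ (f₀.appLE V₀ U₀ eU).hom.toAlgebra rs) :
    @RegImm.IsTransRegularSeq Γ(Si, Vi) Γ(Xi, pX ⁻¹ᵁ U₀ ⊓ fi ⁻¹ᵁ Vi) _ _
      (fi.appLE Vi _ inf_le_right).hom.toAlgebra (rs.map (pX.appLE U₀ _ inf_le_left).hom) := by
  let A₀ : Type u := Γ(S₀, V₀)
  let B₀ : Type u := Γ(X₀, U₀)
  let T : Type u := Γ(Si, Vi)
  let BT : Type u := Γ(Xi, pX ⁻¹ᵁ U₀ ⊓ fi ⁻¹ᵁ Vi)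
  letI : Algebra A₀ B₀ := (f₀.appLE V₀ U₀ eU).hom.toAlgebra
  letI : Algebra A₀ T := (pS.appLE V₀ Vi eV).hom.toAlgebra
  letI : Algebra T BT := (fi.appLE Vi _ inf_le_right).hom.toAlgebra
  letI : Algebra B₀ BT := (pX.appLE U₀ _ inf_le_left).hom.toAlgebra
  letI : Algebra A₀ BT := ((algebraMap T BT).comp (algebraMap A₀ T)).toAlgebra
  haveI : IsScalarTower A₀ T BT := IsScalarTower.of_algebraMap_eq' rfl
  haveI : IsScalarTower A₀ B₀ BT := IsScalarTower.of_algebraMap_eq' (by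
    show (fi.appLE Vi _ _).hom.comp (pS.appLE V₀ Vi _).hom = (pX.appLE U₀ _ _).hom.comp (f₀.appLE V₀ U₀ _).hom
    rw [← CommRingCat.hom_comp, ← CommRingCat.hom_comp, Scheme.Hom.appLE_comp_appLE, Scheme.Hom.appLE_comp_appLE]
    simp only [sq.w])
  haveI : Algebra.IsPushout A₀ T B₀ BT := FlatLimit.isPushout_square sq eV eU hV₀ hVi hU₀ rfl rfl rfl rfl
  haveI : Algebra.IsPushout A₀ A₀ B₀ B₀ := ⟨IsBaseChange.ofEquiv (LinearEquiv.refl A₀ B₀)⟩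
  haveI : SMulCommClass B₀ T BT := ⟨fun a b x => by
    rw [Algebra.smul_def, Algebra.smul_def, Algebra.smul_def, Algebra.smul_def, mul_left_comm]⟩
  haveI : SMulCommClass B₀ A₀ B₀ := ⟨fun a b x => mul_smul_comm b a x⟩
  show RegImm.IsTransRegularSeq T BT (rs.map (algebraMap B₀ BT))
  refine isTransRegularSeq_baseChange (A₀ := A₀) (S := A₀) (T := T) (algebraMap B₀ BT) (fun s => ?_) (fun b => rfl) rs ?_
  · rw [← IsScalarTower.algebraMap_apply, ← IsScalarTower.algebraMap_apply]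
  · rw [Algebra.algebraMap_self]
    simpa using h

include sq eV hV₀ hVi hU₀ in
/-- Over affine charts, equations of a base change are equations in the tensor product. -/
theorem square_iff [Algebra Γ(S₀, V₀) Γ(X₀, U₀)]
    (hB : algebraMap Γ(S₀, V₀) Γ(X₀, U₀) = (f₀.appLE V₀ U₀ eU).hom) [Algebra Γ(S₀, V₀) Γ(Si, Vi)]
    (hS : algebraMap Γ(S₀, V₀) Γ(Si, Vi) = (pS.appLE V₀ Vi eV).hom) (rs : List Γ(X₀, U₀)) (J : Ideal Γ(X₀, U₀)) :
    (@RegImm.IsTransRegularSeq Γ(Si, Vi) Γ(Xi, pX ⁻¹ᵁ U₀ ⊓ fi ⁻¹ᵁ Vi) _ _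
        (fi.appLE Vi _ inf_le_right).hom.toAlgebra (rs.map (pX.appLE U₀ _ inf_le_left).hom) ∧
      J.map (pX.appLE U₀ (pX ⁻¹ᵁ U₀ ⊓ fi ⁻¹ᵁ Vi) inf_le_left).hom =
        Ideal.ofList (rs.map (pX.appLE U₀ (pX ⁻¹ᵁ U₀ ⊓ fi ⁻¹ᵁ Vi) inf_le_left).hom)) ↔
      (RegImm.IsTransRegularSeq Γ(Si, Vi) (Γ(Si, Vi) ⊗[Γ(S₀, V₀)] Γ(X₀, U₀))
          (rs.map (algebraMap Γ(X₀, U₀) (Γ(Si, Vi) ⊗[Γ(S₀, V₀)] Γ(X₀, U₀)))) ∧
        J.map (algebraMap Γ(X₀, U₀) (Γ(Si, Vi) ⊗[Γ(S₀, V₀)] Γ(X₀, U₀))) =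
          Ideal.ofList (rs.map (algebraMap Γ(X₀, U₀) (Γ(Si, Vi) ⊗[Γ(S₀, V₀)] Γ(X₀, U₀))))) := by
  let U := pX ⁻¹ᵁ U₀ ⊓ fi ⁻¹ᵁ Vi
  letI : Algebra Γ(Si, Vi) Γ(Xi, U) := (fi.appLE Vi U inf_le_right).hom.toAlgebra
  letI : Algebra Γ(X₀, U₀) Γ(Xi, U) := (pX.appLE U₀ U inf_le_left).hom.toAlgebra
  letI : Algebra Γ(S₀, V₀) Γ(Xi, U) :=
    ((algebraMap Γ(Si, Vi) Γ(Xi, U)).comp (algebraMap Γ(S₀, V₀) Γ(Si, Vi))).toAlgebra
  haveI : IsScalarTower Γ(S₀, V₀) Γ(Si, Vi) Γ(Xi, U) := IsScalarTower.of_algebraMap_eq' rfl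
  haveI : IsScalarTower Γ(S₀, V₀) Γ(X₀, U₀) Γ(Xi, U) := IsScalarTower.of_algebraMap_eq' (by
    rw [RingHom.algebraMap_toAlgebra, hS, hB]
    show (fi.appLE Vi U _).hom.comp (pS.appLE V₀ Vi _).hom = (pX.appLE U₀ U _).hom.comp (f₀.appLE V₀ U₀ _).hom
    rw [← CommRingCat.hom_comp, ← CommRingCat.hom_comp, Scheme.Hom.appLE_comp_appLE, Scheme.Hom.appLE_comp_appLE]
    simp only [sq.w])
  haveI : Algebra.IsPushout Γ(S₀, V₀) Γ(Si, Vi) Γ(X₀, U₀) Γ(Xi, U) :=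
    FlatLimit.isPushout_square sq eV eU hV₀ hVi hU₀ hS hB rfl rfl
  haveI : SMulCommClass Γ(X₀, U₀) Γ(Si, Vi) Γ(Xi, U) := ⟨fun a b x => by
    rw [Algebra.smul_def, Algebra.smul_def, Algebra.smul_def, Algebra.smul_def, mul_left_comm]⟩
  let eq := (Algebra.IsPushout.equiv Γ(S₀, V₀) Γ(Si, Vi) Γ(X₀, U₀) Γ(Xi, U)).toRingEquiv
  have eq_tmul : ∀ (a : Γ(Si, Vi)) (b : Γ(X₀, U₀)),
      eq (a ⊗ₜ b) = algebraMap Γ(Si, Vi) Γ(Xi, U) a * algebraMap Γ(X₀, U₀) Γ(Xi, U) b :=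
    fun a b => Algebra.IsPushout.equiv_tmul _ _ _ _ a b
  have h1 : eq.toRingHom.comp (algebraMap Γ(X₀, U₀) (Γ(Si, Vi) ⊗[Γ(S₀, V₀)] Γ(X₀, U₀))) =
      algebraMap Γ(X₀, U₀) Γ(Xi, U) := RingHom.ext fun b => by
    show eq (1 ⊗ₜ b) = _
    rw [eq_tmul, map_one, one_mul]
  have h2 : eq.symm.toRingHom.comp (algebraMap Γ(X₀, U₀) Γ(Xi, U)) =
      algebraMap Γ(X₀, U₀) (Γ(Si, Vi) ⊗[Γ(S₀, V₀)] Γ(X₀, U₀)) := RingHom.ext fun b => by
    apply eq.injective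
    show eq (eq.symm _) = _
    rw [eq.apply_symm_apply]
    exact (RingHom.congr_fun h1 b).symm
  show (RegImm.IsTransRegularSeq Γ(Si, Vi) Γ(Xi, U) (rs.map (algebraMap Γ(X₀, U₀) Γ(Xi, U))) ∧
    J.map (algebraMap Γ(X₀, U₀) Γ(Xi, U)) = Ideal.ofList (rs.map (algebraMap Γ(X₀, U₀) Γ(Xi, U)))) ↔ _
  constructor
  · rintro ⟨h, hJ⟩
    refine ⟨isTransRegularSeq_baseChange (A₀ := Γ(S₀, V₀)) (S := Γ(Si, Vi)) (T := Γ(Si, Vi)) eq.symm.toRingHom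
      (fun a => ?_) (fun b => RingHom.congr_fun h2 b) rs h, ?_⟩
    · apply eq.injective
      show eq (eq.symm _) = eq (a ⊗ₜ 1)
      rw [eq.apply_symm_apply, eq_tmul, map_one, mul_one]
    · rw [← Ideal.map_ofList] at hJ ⊢
      rw [← h2, ← Ideal.map_map, ← Ideal.map_map, hJ]
  · rintro ⟨h, hJ⟩
    refine ⟨isTransRegularSeq_baseChange (A₀ := Γ(S₀, V₀)) (S := Γ(Si, Vi)) (T := Γ(Si, Vi)) eq.toRingHom
      (fun a => ?_) (fun b => RingHom.congr_fun h1 b) rs h, ?_⟩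
    · show eq (a ⊗ₜ 1) = _
      rw [eq_tmul, map_one, mul_one]
      rfl
    · rw [← Ideal.map_ofList] at hJ ⊢
      rw [← h1, ← Ideal.map_map, ← Ideal.map_map, hJ]

end Square

/-- Transversal regularity of an immersion at a point is preserved by base change. -/
theorem transImmAt_of_isPullback {X₁ X₂ S₁ S₂ Z₁ Z₂ : Scheme.{u}} {f₁ : X₁ ⟶ S₁} {f₂ : X₂ ⟶ S₂} {v : S₂ ⟶ S₁}
    {vX : X₂ ⟶ X₁} (sqX : IsPullback vX f₂ f₁ v) {i₁ : Z₁ ⟶ X₁} {i₂ : Z₂ ⟶ X₂} {vZ : Z₂ ⟶ Z₁}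
    (sqZ : IsPullback vZ i₂ i₁ vX) (z : Z₂) (h : RegImm.IsTransRegularImmersionAt f₁ i₁ (vZ z)) :
    RegImm.IsTransRegularImmersionAt f₂ i₂ z := by
  obtain ⟨U, V, e, hzU, hci, rs, hrs, hker⟩ := h
  have hw : vX (i₂ z) = i₁ (vZ z) := by rw [← Scheme.Hom.comp_apply, ← sqZ.w]; rfl
  have hxU : vX (i₂ z) ∈ U.1 := by rw [hw]; exact hzU
  have hxV : i₂ z ∈ f₂ ⁻¹ᵁ (v ⁻¹ᵁ V.1) := by
    show v (f₂ (i₂ z)) ∈ V.1
    rw [← Scheme.Hom.comp_apply f₂ v, ← sqX.w, Scheme.Hom.comp_apply]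
    exact e hxU
  obtain ⟨V', hV', hxV', eV⟩ := exists_isAffineOpen_mem_and_subset (show f₂ (i₂ z) ∈ v ⁻¹ᵁ V.1 from hxV)
  have hU' : IsAffineOpen (vX ⁻¹ᵁ U.1 ⊓ f₂ ⁻¹ᵁ V') := FlatLimit.isAffineOpen_square sqX eV e V.2 hV' U.2
  obtain ⟨hci', hker'⟩ := RegSeqLoc.ker_of_isPullback sqZ U hci hU' inf_le_left
  refine ⟨⟨_, hU'⟩, ⟨V', hV'⟩, inf_le_right, ⟨hxU, hxV'⟩, hci', _, transSeq_of_square sqX eV e V.2 hV' U.2 rs hrs, ?_⟩
  rw [hker', hker, Ideal.map_ofList]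

/-- The choice of the base change of an immersion does not matter. -/
theorem transImm_iff_of_isPullback {X X₀ Y₀ S Y' : Scheme.{u}} (f : X ⟶ S) (j₀ : Y₀ ⟶ X₀) [IsImmersion j₀]
    {q : X ⟶ X₀} {q' : Y' ⟶ Y₀} {i' : Y' ⟶ X} (hsq : IsPullback q' i' j₀ q) :
    RegImm.IsTransRegularImmersion f (pullback.snd j₀ q) ↔ RegImm.IsTransRegularImmersion f i' := by
  haveI : IsImmersion i' := MorphismProperty.of_isPullback (P := @IsImmersion) hsq inferInstance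
  have sqX : IsPullback (𝟙 X) f f (𝟙 S) := IsPullback.of_horiz_isIso ⟨by simp⟩
  refine ⟨fun ⟨_, h⟩ => ⟨inferInstance, fun z => ?_⟩, fun ⟨_, h⟩ => ⟨inferInstance, fun z => ?_⟩⟩
  · exact transImmAt_of_isPullback sqX
      (IsPullback.of_horiz_isIso ⟨by simp⟩ : IsPullback hsq.isoPullback.hom i' (pullback.snd j₀ q) (𝟙 X)) z (h _)
  · exact transImmAt_of_isPullback sqX
      (IsPullback.of_horiz_isIso ⟨by simp⟩ : IsPullback hsq.isoPullback.inv (pullback.snd j₀ q) i' (𝟙 X)) z (h _)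

theorem isOpen_transImmAt {X S Z : Scheme.{u}} (f : X ⟶ S) (i : Z ⟶ X) :
    IsOpen {z | RegImm.IsTransRegularImmersionAt f i z} := by
  refine isOpen_iff_forall_mem_open.2 fun z hz => ?_
  obtain ⟨U, V, e, hU, h⟩ := hz
  exact ⟨(i ⁻¹ᵁ U.1 : Z.Opens), fun y hy => ⟨U, V, e, hy, h⟩, (i ⁻¹ᵁ U.1).2, hU⟩

/-- The ideal of an immersion of finite presentation over an affine chart is finitely generated. -/
theorem fg_ker_app {Y₀ X₀ S₀ : Scheme.{u}} (g₀ : X₀ ⟶ S₀) [LocallyOfFinitePresentation g₀] (j₀ : Y₀ ⟶ X₀)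
    [LocallyOfFinitePresentation j₀] {V₀ : S₀.Opens} (hV₀ : IsAffineOpen V₀) {U₀ : X₀.Opens} (hU₀ : IsAffineOpen U₀)
    (hUV : U₀ ≤ g₀ ⁻¹ᵁ V₀) (hci : IsClosedImmersion (j₀ ∣_ U₀)) : (RingHom.ker (j₀.app U₀).hom).FG := by
  obtain ⟨hsurj, hpre⟩ := RegSeqLoc.app_surjective_of_restrict j₀ hU₀ hci
  letI : Algebra Γ(S₀, V₀) Γ(X₀, U₀) := (g₀.appLE V₀ U₀ hUV).hom.toAlgebra
  letI : Algebra Γ(S₀, V₀) Γ(Y₀, j₀ ⁻¹ᵁ U₀) := ((j₀.app U₀).hom.comp (g₀.appLE V₀ U₀ hUV).hom).toAlgebra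
  haveI : Algebra.FinitePresentation Γ(S₀, V₀) Γ(X₀, U₀) := g₀.finitePresentation_appLE hV₀ hU₀ hUV
  haveI : Algebra.FinitePresentation Γ(S₀, V₀) Γ(Y₀, j₀ ⁻¹ᵁ U₀) := by
    have h := (j₀ ≫ g₀).finitePresentation_appLE hV₀ hpre (fun a ha => hUV ha)
    rw [show (j₀ ≫ g₀).appLE V₀ (j₀ ⁻¹ᵁ U₀) (fun a ha => hUV ha) = g₀.appLE V₀ U₀ hUV ≫ j₀.app U₀ by
      rw [← Scheme.Hom.appLE_eq_app, Scheme.Hom.appLE_comp_appLE]] at h
    exact h
  exact Algebra.FinitePresentation.ker_fG_of_surjective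
    (⟨(j₀.app U₀).hom, fun _ => rfl⟩ : Γ(X₀, U₀) →ₐ[Γ(S₀, V₀)] Γ(Y₀, j₀ ⁻¹ᵁ U₀)) hsurj

theorem apply_of_comp {A B C : Scheme.{u}} {f : A ⟶ B} {g : B ⟶ C} {h : A ⟶ C} (w : f ≫ g = h) (x : A) :
    g (f x) = h x := by
  subst w; rfl

section Limit

open GrothLib.LimDesc

variable {I : Type u} [SmallCategory I] [IsCofiltered I] (D : I ⥤ Scheme.{u}) {c : Cone D} (hc : IsLimit c)
  [∀ (i j : I) (f : i ⟶ j), IsAffineHom (D.map f)] {i₀ : I}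
  {X₀ Y₀ : Scheme.{u}} (g₀ : X₀ ⟶ D.obj i₀) (j₀ : Y₀ ⟶ X₀)

/-- The base change of `j₀` at a stage. -/
abbrev stageImm (k : Over i₀) : pullback (j₀ ≫ g₀) (D.map k.hom) ⟶ pullback g₀ (D.map k.hom) :=
  (mapNat D i₀ g₀ (j₀ ≫ g₀) j₀ rfl).app k

variable (c) in
/-- The cone of the stages of the source. -/
abbrev coneY : Cone (diag D i₀ (j₀ ≫ g₀)) :=
  cone D i₀ (j₀ ≫ g₀) ((IsPullback.of_hasPullback j₀ (pullback.fst g₀ (c.π.app i₀))).paste_vert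
    (IsPullback.of_hasPullback g₀ (c.π.app i₀)))

theorem isPullback_coneY (k : Over i₀) :
    IsPullback ((coneY D c g₀ j₀).π.app k) (pullback.snd j₀ (pullback.fst g₀ (c.π.app i₀))) (stageImm D g₀ j₀ k)
      ((cone D i₀ g₀ (IsPullback.of_hasPullback g₀ (c.π.app i₀))).π.app k) :=
  isPullback_π D i₀ g₀ (j₀ ≫ g₀) (IsPullback.of_hasPullback g₀ (c.π.app i₀)) j₀ rfl
    ((IsPullback.of_hasPullback j₀ (pullback.fst g₀ (c.π.app i₀))).paste_vert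
      (IsPullback.of_hasPullback g₀ (c.π.app i₀))) _ pullback.condition.symm rfl k

include hc in
/-- A point of transversal regularity over the limit comes from a stage. -/
theorem exists_stage_transImmAt [LocallyOfFinitePresentation g₀] [IsImmersion j₀] [LocallyOfFinitePresentation j₀]
    (z : ↥(pullback j₀ (pullback.fst g₀ (c.π.app i₀))))
    (h : RegImm.IsTransRegularImmersionAt (pullback.snd g₀ (c.π.app i₀))
      (pullback.snd j₀ (pullback.fst g₀ (c.π.app i₀))) z) :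
    ∃ k : Over i₀, RegImm.IsTransRegularImmersionAt (pullback.snd g₀ (D.map k.hom)) (stageImm D g₀ j₀ k)
      ((coneY D c g₀ j₀).π.app k z) := by
  classical
  obtain ⟨U, V, eUV, hxU, hci, rs, hrs, hker⟩ := h
  let F := diag D i₀ g₀
  haveI : ∀ {k l : Over i₀} (ψ : k ⟶ l), IsAffineHom (F.map ψ) := fun ψ => isAffineHom_map D i₀ g₀ ψ
  let cX := cone D i₀ g₀ (IsPullback.of_hasPullback g₀ (c.π.app i₀))
  let hcX : IsLimit cX := isLimitCone D i₀ g₀ (IsPullback.of_hasPullback g₀ (c.π.app i₀)) hc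
  let i' := pullback.snd j₀ (pullback.fst g₀ (c.π.app i₀))
  let y₀ := pullback.fst j₀ (pullback.fst g₀ (c.π.app i₀)) z
  let x := i' z
  -- an affine chart at the bottom
  obtain ⟨U₀', hyU', hci₀'⟩ := RegSeqLoc.exists_affine_isClosedImmersion j₀ y₀
  obtain ⟨V₀, hV₀, hyV, -⟩ :=
    exists_isAffineOpen_mem_and_subset (show g₀ (j₀ y₀) ∈ (⊤ : (D.obj i₀).Opens) from trivial)
  obtain ⟨U₀, hU₀, hyU, hle⟩ := Opens.isBasis_iff_nbhd.1 X₀.isBasis_affineOpens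
    (show j₀ y₀ ∈ U₀'.1 ⊓ g₀ ⁻¹ᵁ V₀ from ⟨hyU', hyV⟩)
  have eU₀ : U₀ ≤ g₀ ⁻¹ᵁ V₀ := hle.trans inf_le_right
  obtain ⟨hci₀, -⟩ := LimReg10.ker_restrict j₀ U₀' hci₀' hU₀ (hle.trans inf_le_left)
  have hfg₀ := fg_ker_app g₀ j₀ hV₀ hU₀ eU₀ hci₀
  have hx0 : pullback.fst g₀ (c.π.app i₀) x = j₀ y₀ := by
    show pullback.fst g₀ (c.π.app i₀) (i' z) = j₀ (pullback.fst j₀ (pullback.fst g₀ (c.π.app i₀)) z)
    rw [← Scheme.Hom.comp_apply, ← Scheme.Hom.comp_apply, pullback.condition]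
  -- shrink to the preimage of an affine open of a stage
  let top : Over i₀ := Over.mk (𝟙 i₀)
  let Ut : (F.obj top).Opens := pullback.fst g₀ (D.map top.hom) ⁻¹ᵁ U₀
  have hUt : IsAffineOpen Ut := hU₀.preimage (pullback.fst g₀ (D.map top.hom))
  haveI := isAffineHom_π_app F cX hcX top
  have hWt : IsAffineOpen (cX.π.app top ⁻¹ᵁ Ut) := hUt.preimage _
  have hxWt : x ∈ cX.π.app top ⁻¹ᵁ Ut := by
    have h1 : pullback.fst g₀ (D.map top.hom) (cX.π.app top x) = j₀ y₀ :=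
      ((Scheme.Hom.comp_apply _ _ _).symm.trans
        (congrArg (fun f => f x) (π_fst D i₀ g₀ (IsPullback.of_hasPullback g₀ (c.π.app i₀)) top))).trans hx0
    show pullback.fst g₀ (D.map top.hom) (cX.π.app top x) ∈ U₀
    exact h1.symm ▸ hyU
  obtain ⟨r, hrU, hxr⟩ := hWt.exists_basicOpen_le (V := U.1) ⟨x, hxU⟩ hxWt
  obtain ⟨m, φ, e, t, ht⟩ := FlatLimit.exists_appLE_π_eq F cX hcX hUt r
  let Um : (F.obj m).Opens := (F.obj m).basicOpen t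
  have hUm : IsAffineOpen Um := (hUt.preimage (F.map φ)).basicOpen t
  have hb : cX.pt.basicOpen r = cX.π.app top ⁻¹ᵁ Ut ⊓ cX.π.app m ⁻¹ᵁ Um :=
    (congrArg cX.pt.basicOpen ht.symm).trans (Scheme.basicOpen_appLE _ _ _ _ _)
  have hUm_le : cX.π.app m ⁻¹ᵁ Um ≤ cX.pt.basicOpen r := by
    rw [hb]
    refine le_inf ?_ le_rfl
    refine ((cX.π.app m).preimage_mono ((F.obj m).basicOpen_le t)).trans ?_
    exact le_of_eq ((Scheme.Hom.comp_preimage _ _ _).symm.trans (congrArg (· ⁻¹ᵁ Ut) (cX.w φ)))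
  have hxm : cX.π.app m x ∈ Um := (hb.le hxr).2
  have eUm₀ : Um ≤ pullback.fst g₀ (D.map m.hom) ⁻¹ᵁ U₀ := fun y hy => by
    have h' : pullback.fst g₀ (D.map top.hom) (F.map φ y) ∈ U₀ := (F.obj m).basicOpen_le t hy
    show pullback.fst g₀ (D.map m.hom) y ∈ U₀
    exact apply_of_comp (map_fst D i₀ g₀ φ) y ▸ h'
  let Vm := D.map m.hom ⁻¹ᵁ V₀
  have eUVm : Um ≤ pullback.snd g₀ (D.map m.hom) ⁻¹ᵁ Vm := fun y hy => by
    show D.map m.hom (pullback.snd g₀ (D.map m.hom) y) ∈ V₀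
    rw [← Scheme.Hom.comp_apply, ← pullback.condition, Scheme.Hom.comp_apply]
    exact eU₀ (eUm₀ hy)
  obtain ⟨hciM, hkerM⟩ :=
    RegSeqLoc.ker_of_isPullback (isPullback_mapNat D i₀ g₀ (j₀ ≫ g₀) j₀ rfl m) ⟨U₀, hU₀⟩ hci₀ hUm eUm₀
  -- the equations come from a later stage
  have hmU : cX.π.app m ⁻¹ᵁ Um ≤ U.1 := hUm_le.trans hrU
  let rsW := rs.map ((pullback g₀ (c.π.app i₀)).presheaf.map (homOfLE hmU).op).hom
  obtain ⟨n, ψ, t', ht'⟩ := GrothLib.ConsLim.exists_common_lift hcX hUm rsW.get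
  let Un := F.map ψ ⁻¹ᵁ Um
  let Vn := D.map ψ.left ⁻¹ᵁ Vm
  have hUn : IsAffineOpen Un := hUm.preimage (F.map ψ)
  have hVn : IsAffineOpen Vn := (hV₀.preimage _).preimage _
  have eUVn : Un ≤ pullback.snd g₀ (D.map n.hom) ⁻¹ᵁ Vn := fun y hy => by
    show D.map ψ.left (pullback.snd g₀ (D.map n.hom) y) ∈ Vm
    exact (apply_of_comp (map_snd D i₀ g₀ ψ) y) ▸ (eUVm hy)
  obtain ⟨hciN, hkerN⟩ := RegSeqLoc.ker_of_isPullback
    (isPullback_mapNat_map D i₀ g₀ (j₀ ≫ g₀) j₀ rfl ψ) ⟨Um, hUm⟩ hciM hUn le_rfl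
  let J := RingHom.ker ((stageImm D g₀ j₀ n).app Un).hom
  have hJfg : J.FG := by
    show (RingHom.ker ((stageImm D g₀ j₀ n).app Un).hom).FG
    rw [hkerN, hkerM]
    exact (hfg₀.map _).map _
  -- the chart over the limit
  have sqn := LimReg10.isPullback_coneπ D g₀ (c := c) n
  haveI := isAffineHom_π_app D c hc n.left
  let Vi := c.π.app n.left ⁻¹ᵁ Vn
  have hVi : IsAffineOpen Vi := hVn.preimage _
  let W := cX.π.app n ⁻¹ᵁ Un ⊓ pullback.snd g₀ (c.π.app i₀) ⁻¹ᵁ Vi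
  have hW : IsAffineOpen W := FlatLimit.isAffineOpen_square sqn le_rfl eUVn hVn hVi hUn
  have eWm : W ≤ cX.π.app m ⁻¹ᵁ Um := inf_le_left.trans (by rw [← Scheme.Hom.comp_preimage, cX.w])
  have eWU : W ≤ U.1 := eWm.trans hmU
  let resU := ((pullback g₀ (c.π.app i₀)).presheaf.map (homOfLE eWU).op).hom
  let α := ((cX.π.app n).appLE Un W inf_le_left).hom
  have hlist : (List.ofFn t').map α = rs.map resU := by
    have h1 : (List.ofFn t').map α =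
        rsW.map ((pullback g₀ (c.π.app i₀)).presheaf.map (homOfLE eWm).op).hom := by
      conv_rhs => rw [← List.ofFn_get rsW]
      rw [List.map_ofFn, List.map_ofFn]
      refine congrArg List.ofFn (funext fun a => ?_)
      show α (t' a) = _
      rw [Function.comp_apply, ← ht' a]
      exact (FlatLimit.appLE_restrict (cX.π.app n) _ _ (t' a)).symm
    rw [h1, List.map_map]
    refine List.map_congr_left fun a _ => ?_
    show ((pullback g₀ (c.π.app i₀)).presheaf.map (homOfLE hmU).op ≫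
      (pullback g₀ (c.π.app i₀)).presheaf.map (homOfLE eWm).op) a = _
    rw [← Functor.map_comp]
    rfl
  have hid : ((𝟙 (pullback g₀ (c.π.app i₀)) :).appLE U.1 W eWU).hom = resU := by
    simp [resU, Scheme.Hom.appLE]
  have htrans := isTransRegularSeq_restrict (pullback.snd g₀ (c.π.app i₀)) U.2 V.2 eUV hW eWU hVi inf_le_right rs hrs
  have hideal : J.map α = Ideal.ofList (rs.map resU) := by
    obtain ⟨-, h1⟩ := LimReg10.ker_restrict i' U hci hW eWU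
    obtain ⟨-, h2⟩ := RegSeqLoc.ker_of_isPullback (isPullback_coneY D g₀ j₀ (c := c) n) ⟨Un, hUn⟩ hciN hW inf_le_left
    refine h2.symm.trans (h1.trans ?_)
    rw [hker, Ideal.map_ofList, hid]
  -- descend to a stage
  letI : Algebra Γ(D.obj n.left, Vn) Γ((LimDesc.diag D i₀ g₀).obj n, Un) :=
    ((pullback.snd g₀ (D.map n.hom)).appLE Vn Un eUVn).hom.toAlgebra
  haveI : LocallyOfFinitePresentation (pullback.snd g₀ (D.map n.hom)) :=
    MorphismProperty.pullback_snd _ _ inferInstance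
  haveI : Algebra.FinitePresentation Γ(D.obj n.left, Vn) Γ((LimDesc.diag D i₀ g₀).obj n, Un) :=
    (pullback.snd g₀ (D.map n.hom)).finitePresentation_appLE hVn hUn eUVn
  letI : Algebra Γ(D.obj n.left, Vn) Γ(c.pt, c.π.app n.left ⁻¹ᵁ Vn) :=
    ((c.π.app n.left).appLE Vn (c.π.app n.left ⁻¹ᵁ Vn) le_rfl).hom.toAlgebra
  letI (k : Over n.left) : Algebra Γ(D.obj n.left, Vn) Γ(D.obj k.left, D.map k.hom ⁻¹ᵁ Vn) :=
    ((D.map k.hom).appLE Vn (D.map k.hom ⁻¹ᵁ Vn) le_rfl).hom.toAlgebra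
  have hten := (square_iff (Si := c.pt) sqn le_rfl eUVn hVn hVi hUn rfl rfl (List.ofFn t') J).1
    ⟨by rw [hlist]; exact htrans, by rw [hlist]; exact hideal⟩
  obtain ⟨k, hk1, hk2⟩ := exists_stage_tensor hc hVn Γ((LimDesc.diag D i₀ g₀).obj n, Un) rfl (fun _ => rfl)
    (List.ofFn t') J hJfg hten.1 hten.2
  let K : Over i₀ := Over.mk (k.hom ≫ n.hom)
  let ψK : K ⟶ n := Over.homMk k.hom
  have sqK : IsPullback (F.map ψK) (pullback.snd g₀ (D.map K.hom)) (pullback.snd g₀ (D.map n.hom)) (D.map k.hom) :=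
    isPullback_map D i₀ g₀ ψK
  have hVk : IsAffineOpen (D.map k.hom ⁻¹ᵁ Vn) := hVn.preimage _
  have hUK : IsAffineOpen (F.map ψK ⁻¹ᵁ Un ⊓ pullback.snd g₀ (D.map K.hom) ⁻¹ᵁ (D.map k.hom ⁻¹ᵁ Vn)) :=
    FlatLimit.isAffineOpen_square sqK le_rfl eUVn hVn hVk hUn
  obtain ⟨hK1, hK2⟩ := (square_iff (Si := D.obj k.left) sqK le_rfl eUVn hVn hVk hUn rfl rfl (List.ofFn t') J).2 ⟨hk1, hk2⟩
  obtain ⟨hciK, hkerK⟩ := RegSeqLoc.ker_of_isPullback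
    (isPullback_mapNat_map D i₀ g₀ (j₀ ≫ g₀) j₀ rfl ψK) ⟨Un, hUn⟩ hciN hUK inf_le_left
  refine ⟨K, ⟨_, hUK⟩, ⟨_, hVk⟩, inf_le_right, ?_, hciK, _, hK1, hkerK.trans hK2⟩
  have hxK : stageImm D g₀ j₀ K ((coneY D c g₀ j₀).π.app K z) = cX.π.app K x :=
    apply_of_comp (isPullback_coneY D g₀ j₀ (c := c) K).w z
  rw [hxK]
  have hn : F.map ψK (cX.π.app K x) ∈ Un := by
    show F.map ψ (F.map ψK (cX.π.app K x)) ∈ Um
    exact (congrArg (F.map ψ) (apply_of_comp (cX.w ψK) x)).trans (apply_of_comp (cX.w ψ) x) ▸ hxm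
  refine ⟨hn, ?_⟩
  show D.map ψK.left (pullback.snd g₀ (D.map K.hom) (cX.π.app K x)) ∈ Vn
  exact (apply_of_comp (map_snd D i₀ g₀ ψK) (cX.π.app K x)) ▸ (eUVn hn)

include hc in
/-- **Transversal regularity of an immersion over the limit is transversal regularity at some stage.** -/
theorem isTransRegularImmersion_iff_exists [CompactSpace Y₀] [LocallyOfFinitePresentation g₀] [IsImmersion j₀]
    [LocallyOfFinitePresentation j₀] :
    RegImm.IsTransRegularImmersion (pullback.snd g₀ (c.π.app i₀))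
        (pullback.snd j₀ (pullback.fst g₀ (c.π.app i₀))) ↔
      ∃ (j : I) (φ : j ⟶ i₀), RegImm.IsTransRegularImmersion (pullback.snd g₀ (D.map φ))
        (pullback.snd j₀ (pullback.fst g₀ (D.map φ))) := by
  classical
  let F := diag D i₀ (j₀ ≫ g₀)
  let cY := coneY D c g₀ j₀
  constructor
  · rintro ⟨-, h⟩
    let O : ∀ k : Over i₀, (F.obj k).Opens :=
      fun k => ⟨_, isOpen_transImmAt (pullback.snd g₀ (D.map k.hom)) (stageImm D g₀ j₀ k)⟩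
    have hO : ∀ {k l : Over i₀} (ψ : k ⟶ l), F.map ψ ⁻¹ᵁ O l ≤ O k := fun {k l} ψ y hy =>
      transImmAt_of_isPullback (isPullback_map D i₀ g₀ ψ) (isPullback_mapNat_map D i₀ g₀ (j₀ ≫ g₀) j₀ rfl ψ) y hy
    haveI : ∀ {k l : Over i₀} (ψ : k ⟶ l), IsAffineHom (F.map ψ) := fun ψ => isAffineHom_map D i₀ (j₀ ≫ g₀) ψ
    haveI : ∀ k, CompactSpace (F.obj k) := fun k => compactSpace_obj D i₀ (j₀ ≫ g₀) k
    haveI : CompactSpace ↥(pullback j₀ (pullback.fst g₀ (c.π.app i₀))) := by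
      haveI := isAffineHom_π_app D c hc i₀
      haveI : IsAffineHom (pullback.fst g₀ (c.π.app i₀)) := MorphismProperty.pullback_fst _ _ inferInstance
      haveI : IsAffineHom (pullback.fst j₀ (pullback.fst g₀ (c.π.app i₀))) :=
        MorphismProperty.pullback_fst _ _ inferInstance
      exact QuasiCompact.compactSpace_of_compactSpace (pullback.fst j₀ (pullback.fst g₀ (c.π.app i₀)))
    obtain ⟨T, hT⟩ := isCompact_univ.elim_finite_subcover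
      (fun k : Over i₀ => ((show (pullback j₀ (pullback.fst g₀ (c.π.app i₀))).Opens from cY.π.app k ⁻¹ᵁ O k) :
        Set ↥(pullback j₀ (pullback.fst g₀ (c.π.app i₀)))))
      (fun k => (cY.π.app k ⁻¹ᵁ O k).2)
      (fun z _ => Set.mem_iUnion.2 (exists_stage_transImmAt D hc g₀ j₀ z (h z)))
    obtain ⟨m, hm⟩ := IsCofiltered.inf_objs_exists T
    have hmtop : cY.π.app m ⁻¹ᵁ O m = ⊤ := by
      refine top_le_iff.1 fun x _ => ?_
      obtain ⟨k, hk, hxk⟩ := Set.mem_iUnion₂.1 (hT (Set.mem_univ x))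
      obtain ⟨ψ⟩ := hm hk
      refine hO ψ ?_
      show (cY.π.app m ≫ F.map ψ) x ∈ O k
      rw [Cone.w]
      exact hxk
    obtain ⟨n, ψ, hn⟩ := exists_map_eq_top F cY (isLimitCone D i₀ (j₀ ≫ g₀) _ hc) (O m) hmtop
    refine ⟨n.left, n.hom, (transImm_iff_of_isPullback (pullback.snd g₀ (D.map n.hom)) j₀
      (isPullback_mapNat D i₀ g₀ (j₀ ≫ g₀) j₀ rfl n)).2 ⟨?_, fun y => hO ψ (hn.ge (Set.mem_univ y))⟩⟩
    exact MorphismProperty.of_isPullback (P := @IsImmersion) (isPullback_mapNat D i₀ g₀ (j₀ ≫ g₀) j₀ rfl n)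
      inferInstance
  · rintro ⟨j, φ, h⟩
    obtain ⟨-, h'⟩ := (transImm_iff_of_isPullback (pullback.snd g₀ (D.map (Over.mk φ).hom)) j₀
      (isPullback_mapNat D i₀ g₀ (j₀ ≫ g₀) j₀ rfl (Over.mk φ))).1 h
    exact ⟨inferInstance, fun z => transImmAt_of_isPullback (LimReg10.isPullback_coneπ D g₀ (c := c) (Over.mk φ))
      (isPullback_coneY D g₀ j₀ (c := c) (Over.mk φ)) z (h' _)⟩

end Limit

end GrothLib.TransReg13
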