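import Groth.Agent.Lib.TransReg13.Point
import Groth.Agent.Lib.TransReg13.Ideal
import Groth.Agent.Lib.FlatLimit.Stage

/-!
# Transversally regular sections along limits of schemes
-/

set_option autoImplicit false
set_option backward.isDefEq.respectTransparency false
set_option linter.all false
set_option maxHeartbeats 1000000

universe u

open CategoryTheory Limits AlgebraicGeometry TopologicalSpace TensorProduct

noncomputable section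

namespace GrothLib.TransReg13

attribute [local instance] Algebra.TensorProduct.rightAlgebra

variable {X₀ S₀ : Scheme.{u}} (g₀ : X₀ ⟶ S₀) (fs : List Γ(X₀, ⊤))

/-- The chart of a base change over a pair of opens. -/
abbrev chartU {S₁ : Scheme.{u}} (p : S₁ ⟶ S₀) (V₀ : S₀.Opens) (U₀ : X₀.Opens) : (pullback g₀ p).Opens :=
  pullback.fst g₀ p ⁻¹ᵁ U₀ ⊓ pullback.snd g₀ p ⁻¹ᵁ (p ⁻¹ᵁ V₀)

/-- Transversal regularity of the pulled back sections at every point of a chart. -/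
def ChartTrans {S₁ : Scheme.{u}} (p : S₁ ⟶ S₀) (V₀ : S₀.Opens) (U₀ : X₀.Opens) : Prop :=
  ∀ x ∈ chartU g₀ p V₀ U₀, TransAt (pullback.snd g₀ p) (fs.map (pullback.fst g₀ p).appTop.hom) x

theorem map_appTop_restrict {A B : Scheme.{u}} (q : A ⟶ B) {U₀ : B.Opens} {U : A.Opens} (e : U ≤ q ⁻¹ᵁ U₀)
    (f : Γ(B, ⊤)) :
    q.appLE U₀ U e ((B.presheaf.map (homOfLE (le_top : U₀ ≤ ⊤)).op).hom f) =
      (A.presheaf.map (homOfLE (le_top : U ≤ ⊤)).op).hom (q.appTop.hom f) := by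
  refine (FlatLimit.appLE_map_apply q e le_top f).trans ?_
  show _ = A.presheaf.map _ (q.app ⊤ f)
  rw [Scheme.Hom.app_eq_appLE]
  exact (FlatLimit.appLE_restrict q _ _ f).symm

section Chart

variable {S₁ : Scheme.{u}} (p : S₁ ⟶ S₀) [IsAffineHom p] {V₀ : S₀.Opens} (hV₀ : IsAffineOpen V₀)
  {U₀ : X₀.Opens} (hU₀ : IsAffineOpen U₀) (eU : U₀ ≤ g₀ ⁻¹ᵁ V₀)

include hV₀ hU₀ in
/-- A chart is transversally regular iff the tensor product of the rings is. -/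
theorem chartTrans_iff [Algebra Γ(S₀, V₀) Γ(X₀, U₀)] (hB : algebraMap Γ(S₀, V₀) Γ(X₀, U₀) = (g₀.appLE V₀ U₀ eU).hom)
    [Algebra Γ(S₀, V₀) Γ(S₁, p ⁻¹ᵁ V₀)]
    (hS : algebraMap Γ(S₀, V₀) Γ(S₁, p ⁻¹ᵁ V₀) = (p.appLE V₀ (p ⁻¹ᵁ V₀) le_rfl).hom) :
    ChartTrans g₀ fs p V₀ U₀ ↔
      RegImm.IsTransRegularSeq Γ(S₁, p ⁻¹ᵁ V₀) (Γ(S₁, p ⁻¹ᵁ V₀) ⊗[Γ(S₀, V₀)] Γ(X₀, U₀))
        ((fs.map (fun f => (X₀.presheaf.map (homOfLE (le_top : U₀ ≤ ⊤)).op).hom f)).map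
          (algebraMap Γ(X₀, U₀) (Γ(S₁, p ⁻¹ᵁ V₀) ⊗[Γ(S₀, V₀)] Γ(X₀, U₀)))) := by
  let sq := IsPullback.of_hasPullback g₀ p
  let V := p ⁻¹ᵁ V₀
  let U := chartU g₀ p V₀ U₀
  have hV : IsAffineOpen V := hV₀.preimage p
  have hU : IsAffineOpen U := FlatLimit.isAffineOpen_square sq le_rfl eU hV₀ hV hU₀
  letI : Algebra Γ(S₁, V) Γ(pullback g₀ p, U) := ((pullback.snd g₀ p).appLE V U inf_le_right).hom.toAlgebra
  letI : Algebra Γ(X₀, U₀) Γ(pullback g₀ p, U) := ((pullback.fst g₀ p).appLE U₀ U inf_le_left).hom.toAlgebra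
  letI : Algebra Γ(S₀, V₀) Γ(pullback g₀ p, U) :=
    ((algebraMap Γ(S₁, V) Γ(pullback g₀ p, U)).comp (algebraMap Γ(S₀, V₀) Γ(S₁, V))).toAlgebra
  haveI : IsScalarTower Γ(S₀, V₀) Γ(S₁, V) Γ(pullback g₀ p, U) := IsScalarTower.of_algebraMap_eq' rfl
  haveI : IsScalarTower Γ(S₀, V₀) Γ(X₀, U₀) Γ(pullback g₀ p, U) := IsScalarTower.of_algebraMap_eq' (by
    rw [RingHom.algebraMap_toAlgebra, hS, hB]
    show ((pullback.snd g₀ p).appLE V U _).hom.comp (p.appLE V₀ V _).hom =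
      ((pullback.fst g₀ p).appLE U₀ U _).hom.comp (g₀.appLE V₀ U₀ _).hom
    rw [← CommRingCat.hom_comp, ← CommRingCat.hom_comp, Scheme.Hom.appLE_comp_appLE, Scheme.Hom.appLE_comp_appLE]
    simp only [sq.w])
  haveI : Algebra.IsPushout Γ(S₀, V₀) Γ(S₁, V) Γ(X₀, U₀) Γ(pullback g₀ p, U) :=
    FlatLimit.isPushout_square sq le_rfl eU hV₀ hV hU₀ hS hB rfl rfl
  haveI : SMulCommClass Γ(X₀, U₀) Γ(S₁, V) Γ(pullback g₀ p, U) := ⟨fun a b x => by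
    rw [Algebra.smul_def, Algebra.smul_def, Algebra.smul_def, Algebra.smul_def, mul_left_comm]⟩
  let rs := fs.map (fun f => (X₀.presheaf.map (homOfLE (le_top : U₀ ≤ ⊤)).op).hom f)
  have hrs : rs.map (algebraMap Γ(X₀, U₀) Γ(pullback g₀ p, U)) =
      (fs.map (pullback.fst g₀ p).appTop.hom).map
        (fun f => ((pullback g₀ p).presheaf.map (homOfLE (le_top : U ≤ ⊤)).op).hom f) := by
    rw [List.map_map, List.map_map]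
    exact List.map_congr_left fun f _ => map_appTop_restrict (pullback.fst g₀ p) inf_le_left f
  show (∀ x ∈ U, _) ↔ RegImm.IsTransRegularSeq Γ(S₁, V) (Γ(S₁, V) ⊗[Γ(S₀, V₀)] Γ(X₀, U₀)) (rs.map _)
  rw [← isTransRegularSeq_iff_transAt (pullback.snd g₀ p) (fs.map (pullback.fst g₀ p).appTop.hom) hU hV inf_le_right,
    ← hrs]
  let eq := (Algebra.IsPushout.equiv Γ(S₀, V₀) Γ(S₁, V) Γ(X₀, U₀) Γ(pullback g₀ p, U)).toRingEquiv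
  have eq_tmul : ∀ (a : Γ(S₁, V)) (b : Γ(X₀, U₀)),
      eq (a ⊗ₜ b) = algebraMap Γ(S₁, V) Γ(pullback g₀ p, U) a * algebraMap Γ(X₀, U₀) Γ(pullback g₀ p, U) b :=
    fun a b => Algebra.IsPushout.equiv_tmul _ _ _ _ a b
  constructor
  · intro h
    refine isTransRegularSeq_baseChange (A₀ := Γ(S₀, V₀)) (S := Γ(S₁, V)) (T := Γ(S₁, V)) eq.symm.toRingHom
      (fun a => ?_) (fun b => ?_) rs h
    · apply eq.injective
      show eq (eq.symm _) = eq (a ⊗ₜ 1)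
      rw [eq.apply_symm_apply, eq_tmul, map_one, mul_one]
    · apply eq.injective
      show eq (eq.symm _) = eq (1 ⊗ₜ b)
      rw [eq.apply_symm_apply, eq_tmul, map_one, one_mul]
  · intro h
    refine isTransRegularSeq_baseChange (A₀ := Γ(S₀, V₀)) (S := Γ(S₁, V)) (T := Γ(S₁, V)) eq.toRingHom
      (fun a => ?_) (fun b => ?_) rs h
    · show eq (a ⊗ₜ 1) = _
      rw [eq_tmul, map_one, mul_one]
      rfl
    · show eq (1 ⊗ₜ b) = _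
      rw [eq_tmul, map_one, one_mul]

end Chart

/-- Charts stay transversally regular after an affine base change. -/
theorem chartTrans_of_hom {S₁ S₂ : Scheme.{u}} (p₁ : S₁ ⟶ S₀) (p₂ : S₂ ⟶ S₀) [IsAffineHom p₁] [IsAffineHom p₂]
    (v : S₂ ⟶ S₁) (hv : v ≫ p₁ = p₂) {V₀ : S₀.Opens} (hV₀ : IsAffineOpen V₀) {U₀ : X₀.Opens}
    (hU₀ : IsAffineOpen U₀) (eU : U₀ ≤ g₀ ⁻¹ᵁ V₀) (h : ChartTrans g₀ fs p₁ V₀ U₀) :
    ChartTrans g₀ fs p₂ V₀ U₀ := by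
  letI : Algebra Γ(S₀, V₀) Γ(X₀, U₀) := (g₀.appLE V₀ U₀ eU).hom.toAlgebra
  letI : Algebra Γ(S₀, V₀) Γ(S₁, p₁ ⁻¹ᵁ V₀) := (p₁.appLE V₀ (p₁ ⁻¹ᵁ V₀) le_rfl).hom.toAlgebra
  letI : Algebra Γ(S₀, V₀) Γ(S₂, p₂ ⁻¹ᵁ V₀) := (p₂.appLE V₀ (p₂ ⁻¹ᵁ V₀) le_rfl).hom.toAlgebra
  have ev : p₂ ⁻¹ᵁ V₀ ≤ v ⁻¹ᵁ (p₁ ⁻¹ᵁ V₀) := by rw [← Scheme.Hom.comp_preimage, hv]
  letI : Algebra Γ(S₁, p₁ ⁻¹ᵁ V₀) Γ(S₂, p₂ ⁻¹ᵁ V₀) := (v.appLE _ _ ev).hom.toAlgebra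
  haveI : IsScalarTower Γ(S₀, V₀) Γ(S₁, p₁ ⁻¹ᵁ V₀) Γ(S₂, p₂ ⁻¹ᵁ V₀) := IsScalarTower.of_algebraMap_eq' (by
    show (p₂.appLE V₀ _ _).hom = (v.appLE _ _ ev).hom.comp (p₁.appLE V₀ _ _).hom
    rw [← CommRingCat.hom_comp, Scheme.Hom.appLE_comp_appLE]
    simp only [hv])
  rw [chartTrans_iff g₀ fs p₁ hV₀ hU₀ eU rfl rfl] at h
  rw [chartTrans_iff g₀ fs p₂ hV₀ hU₀ eU rfl rfl]
  refine isTransRegularSeq_baseChange (A₀ := Γ(S₀, V₀)) (S := Γ(S₁, p₁ ⁻¹ᵁ V₀)) (T := Γ(S₂, p₂ ⁻¹ᵁ V₀))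
    (Algebra.TensorProduct.map (IsScalarTower.toAlgHom Γ(S₀, V₀) Γ(S₁, p₁ ⁻¹ᵁ V₀) Γ(S₂, p₂ ⁻¹ᵁ V₀))
      (AlgHom.id Γ(S₀, V₀) Γ(X₀, U₀))).toRingHom (fun s => ?_) (fun x => ?_) _ h
  · show Algebra.TensorProduct.map _ (AlgHom.id Γ(S₀, V₀) Γ(X₀, U₀)) (s ⊗ₜ 1) = _ ⊗ₜ 1
    simp
  · show Algebra.TensorProduct.map _ (AlgHom.id Γ(S₀, V₀) Γ(X₀, U₀)) ((1 : Γ(S₁, p₁ ⁻¹ᵁ V₀)) ⊗ₜ x) =
      (1 : Γ(S₂, p₂ ⁻¹ᵁ V₀)) ⊗ₜ x
    simp

/-- Charts covering the source give transversal regularity at every point. -/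
theorem transAt_of_charts {S₁ : Scheme.{u}} (p : S₁ ⟶ S₀) {ι : Type*} (V₀ : ι → S₀.Opens) (U₀ : ι → X₀.Opens)
    (eU : ∀ i, U₀ i ≤ g₀ ⁻¹ᵁ V₀ i) (hcov : ∀ x : X₀, ∃ i, x ∈ U₀ i) (h : ∀ i, ChartTrans g₀ fs p (V₀ i) (U₀ i))
    (x : ↥(pullback g₀ p)) : TransAt (pullback.snd g₀ p) (fs.map (pullback.fst g₀ p).appTop.hom) x := by
  obtain ⟨i, hi⟩ := hcov (pullback.fst g₀ p x)
  refine h i x ⟨hi, ?_⟩
  show p (pullback.snd g₀ p x) ∈ V₀ i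
  rw [← Scheme.Hom.comp_apply, ← pullback.condition, Scheme.Hom.comp_apply]
  exact eU i hi

section Limit

variable {I : Type u} [SmallCategory I] [IsCofiltered I] {D : I ⥤ Scheme.{u}} {c : Cone D} (hc : IsLimit c)
  [∀ (i j : I) (f : i ⟶ j), IsAffineHom (D.map f)] {i₀ : I}

include hc in
/-- Transversally regular equations over the limit of the base rings come from a stage. -/
theorem exists_stage_tensor {V₀ : (D.obj i₀).Opens} (hV₀ : IsAffineOpen V₀) (B₀ : Type u) [CommRing B₀]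
    [Algebra Γ(D.obj i₀, V₀) B₀] [Algebra.FinitePresentation Γ(D.obj i₀, V₀) B₀]
    [Algebra Γ(D.obj i₀, V₀) Γ(c.pt, c.π.app i₀ ⁻¹ᵁ V₀)]
    (hA : algebraMap Γ(D.obj i₀, V₀) Γ(c.pt, c.π.app i₀ ⁻¹ᵁ V₀) =
      ((c.π.app i₀).appLE V₀ (c.π.app i₀ ⁻¹ᵁ V₀) le_rfl).hom)
    [∀ k : Over i₀, Algebra Γ(D.obj i₀, V₀) Γ(D.obj k.left, D.map k.hom ⁻¹ᵁ V₀)]
    (hG : ∀ k : Over i₀, algebraMap Γ(D.obj i₀, V₀) Γ(D.obj k.left, D.map k.hom ⁻¹ᵁ V₀) =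
      ((D.map k.hom).appLE V₀ (D.map k.hom ⁻¹ᵁ V₀) le_rfl).hom)
    (rs : List B₀) (J : Ideal B₀) (hJ : J.FG)
    (h : RegImm.IsTransRegularSeq Γ(c.pt, c.π.app i₀ ⁻¹ᵁ V₀) (Γ(c.pt, c.π.app i₀ ⁻¹ᵁ V₀) ⊗[Γ(D.obj i₀, V₀)] B₀)
      (rs.map (algebraMap B₀ (Γ(c.pt, c.π.app i₀ ⁻¹ᵁ V₀) ⊗[Γ(D.obj i₀, V₀)] B₀))))
    (hId : J.map (algebraMap B₀ (Γ(c.pt, c.π.app i₀ ⁻¹ᵁ V₀) ⊗[Γ(D.obj i₀, V₀)] B₀)) =
      Ideal.ofList (rs.map (algebraMap B₀ (Γ(c.pt, c.π.app i₀ ⁻¹ᵁ V₀) ⊗[Γ(D.obj i₀, V₀)] B₀)))) :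
    ∃ k : Over i₀, RegImm.IsTransRegularSeq Γ(D.obj k.left, D.map k.hom ⁻¹ᵁ V₀)
        (Γ(D.obj k.left, D.map k.hom ⁻¹ᵁ V₀) ⊗[Γ(D.obj i₀, V₀)] B₀)
        (rs.map (algebraMap B₀ (Γ(D.obj k.left, D.map k.hom ⁻¹ᵁ V₀) ⊗[Γ(D.obj i₀, V₀)] B₀))) ∧
      J.map (algebraMap B₀ (Γ(D.obj k.left, D.map k.hom ⁻¹ᵁ V₀) ⊗[Γ(D.obj i₀, V₀)] B₀)) =
        Ideal.ofList (rs.map (algebraMap B₀ (Γ(D.obj k.left, D.map k.hom ⁻¹ᵁ V₀) ⊗[Γ(D.obj i₀, V₀)] B₀))) := by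
  classical
  haveI := isAffineHom_π_app D c hc i₀
  let A₀ : Type u := Γ(D.obj i₀, V₀)
  let A : Type u := Γ(c.pt, c.π.app i₀ ⁻¹ᵁ V₀)
  let Vj : ∀ k : Over i₀, (D.obj k.left).Opens := fun k => D.map k.hom ⁻¹ᵁ V₀
  let G : Over i₀ → Type u := fun k => Γ(D.obj k.left, Vj k)
  have eπ : ∀ k : Over i₀, c.π.app i₀ ⁻¹ᵁ V₀ ≤ c.π.app k.left ⁻¹ᵁ Vj k := fun k => by
    show _ ≤ c.π.app k.left ⁻¹ᵁ (D.map k.hom ⁻¹ᵁ V₀)
    rw [← Scheme.Hom.comp_preimage, c.w]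
  have eπ' : ∀ k : Over i₀, c.π.app k.left ⁻¹ᵁ Vj k ≤ c.π.app i₀ ⁻¹ᵁ V₀ := fun k => by
    show c.π.app k.left ⁻¹ᵁ (D.map k.hom ⁻¹ᵁ V₀) ≤ _
    rw [← Scheme.Hom.comp_preimage, c.w]
  have etr : ∀ {k j : Over i₀} (φ : k ⟶ j), Vj k ≤ D.map φ.left ⁻¹ᵁ Vj j := fun {k j} φ => by
    show D.map k.hom ⁻¹ᵁ V₀ ≤ D.map φ.left ⁻¹ᵁ (D.map j.hom ⁻¹ᵁ V₀)
    rw [← Scheme.Hom.comp_preimage, ← D.map_comp, Over.w]
  have hVj : ∀ k, IsAffineOpen (Vj k) := fun k => hV₀.preimage _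
  letI (k : Over i₀) : Algebra (G k) A :=
    ((c.π.app k.left).appLE (Vj k) (c.π.app i₀ ⁻¹ᵁ V₀) (eπ k)).hom.toAlgebra
  haveI (k : Over i₀) : IsScalarTower A₀ (G k) A := IsScalarTower.of_algebraMap_eq' (by
    rw [hA, hG k]
    show ((c.π.app i₀).appLE V₀ _ _).hom =
      ((c.π.app k.left).appLE (Vj k) _ (eπ k)).hom.comp ((D.map k.hom).appLE V₀ (Vj k) _).hom
    rw [← CommRingCat.hom_comp, Scheme.Hom.appLE_comp_appLE]
    simp only [c.w])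
  let tr : ∀ {k j : Over i₀}, (k ⟶ j) → G j →ₐ[A₀] G k :=
    fun {k j} φ => { ((D.map φ.left).appLE (Vj j) (Vj k) (etr φ)).hom with
      commutes' := fun a => by
        rw [hG j, hG k]
        show ((D.map j.hom).appLE V₀ (Vj j) _ ≫ (D.map φ.left).appLE (Vj j) (Vj k) (etr φ)) a =
          (D.map k.hom).appLE V₀ (Vj k) _ a
        rw [Scheme.Hom.appLE_comp_appLE]
        simp only [← D.map_comp, Over.w] }
  have htr : ∀ {k j : Over i₀} (φ : k ⟶ j) (a : G j), algebraMap (G k) A (tr φ a) = algebraMap (G j) A a := by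
    intro k j φ a
    show ((D.map φ.left).appLE (Vj j) (Vj k) (etr φ) ≫
      (c.π.app k.left).appLE (Vj k) (c.π.app i₀ ⁻¹ᵁ V₀) (eπ k)) a = (c.π.app j.left).appLE (Vj j) _ (eπ j) a
    rw [Scheme.Hom.appLE_comp_appLE]
    simp only [c.w]
    rfl
  have hdir : ∀ i i' : Over i₀, ∃ j, ∃ (φ : G i →ₐ[A₀] G j) (φ' : G i' →ₐ[A₀] G j),
      (∀ x, algebraMap (G j) A (φ x) = algebraMap (G i) A x) ∧
      ∀ x, algebraMap (G j) A (φ' x) = algebraMap (G i') A x := fun i i' =>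
    ⟨IsCofiltered.min i i', tr (IsCofiltered.minToLeft i i'), tr (IsCofiltered.minToRight i i'),
      htr (IsCofiltered.minToLeft i i'), htr (IsCofiltered.minToRight i i')⟩
  have hlift : ∀ T : Finset A, ∃ i, (T : Set A) ⊆ Set.range (algebraMap (G i) A) := fun T => by
    induction T using Finset.induction_on with
    | empty => exact ⟨Over.mk (𝟙 i₀), by simp⟩
    | insert b T _ ih =>
      obtain ⟨j, hj⟩ := ih
      obtain ⟨k, φ, e, t, ht⟩ := FlatLimit.exists_appLE_π_eq D c hc hV₀ b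
      refine ⟨IsCofiltered.min j (Over.mk φ), fun x hx => ?_⟩
      rcases Finset.mem_insert.1 (Finset.mem_coe.1 hx) with rfl | hx
      · exact ⟨tr (IsCofiltered.minToRight j (Over.mk φ)) t,
          (htr (IsCofiltered.minToRight j (Over.mk φ)) t).trans ht⟩
      · obtain ⟨y, hy⟩ := hj (Finset.mem_coe.2 hx)
        exact ⟨tr (IsCofiltered.minToLeft j (Over.mk φ)) y,
          (htr (IsCofiltered.minToLeft j (Over.mk φ)) y).trans hy⟩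
  have heq : ∀ i (q : Finset (G i × G i)),
      (∀ x ∈ q, algebraMap (G i) A x.1 = algebraMap (G i) A x.2) →
      ∃ j, ∃ ψ : G i →ₐ[A₀] G j, (∀ x, algebraMap (G j) A (ψ x) = algebraMap (G i) A x) ∧
        ∀ x ∈ q, ψ x.1 = ψ x.2 := fun j q hq => by
    induction q using Finset.induction_on with
    | empty => exact ⟨j, AlgHom.id _ _, fun _ => rfl, by simp⟩
    | insert b q _ ih =>
      obtain ⟨k, ψ, hψ, hψp⟩ := ih fun x hx => hq x (Finset.mem_insert_of_mem hx)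
      have hb : (c.π.app k.left).app (Vj k) (ψ b.1) = (c.π.app k.left).app (Vj k) (ψ b.2) := by
        have h2 : (c.π.app k.left).appLE (Vj k) (c.π.app i₀ ⁻¹ᵁ V₀) (eπ k) (ψ b.1) =
            (c.π.app k.left).appLE (Vj k) (c.π.app i₀ ⁻¹ᵁ V₀) (eπ k) (ψ b.2) :=
          (hψ b.1).trans ((hq b (Finset.mem_insert_self b q)).trans (hψ b.2).symm)
        rw [Scheme.Hom.app_eq_appLE]
        exact (FlatLimit.appLE_restrict _ (eπ k) (eπ' k) _).symm.trans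
          ((congrArg (c.pt.presheaf.map (homOfLE (eπ' k)).op) h2).trans
            (FlatLimit.appLE_restrict _ (eπ k) (eπ' k) _))
      obtain ⟨l, φ, hl⟩ := exists_app_map_eq_map_of_isLimit D c hc (hVj k).isCompact (ψ b.1) (ψ b.2) hb
      let l' : Over i₀ := Over.mk (φ ≫ k.hom)
      let φ' : l' ⟶ k := Over.homMk φ
      refine ⟨l', (tr φ').comp ψ, fun x => (htr φ' (ψ x)).trans (hψ x), fun x hx => ?_⟩
      rcases Finset.mem_insert.1 hx with rfl | hx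
      · exact (FlatLimit.appLE_restrict (D.map φ) le_rfl (etr φ') _).symm.trans
          ((congrArg ((D.obj l).presheaf.map (homOfLE (etr φ')).op)
            (by rw [← Scheme.Hom.app_eq_appLE]; exact hl)).trans
            (FlatLimit.appLE_restrict (D.map φ) le_rfl (etr φ') _))
      · rw [AlgHom.comp_apply, AlgHom.comp_apply, hψp x hx]
  haveI : Nonempty (Over i₀) := ⟨Over.mk (𝟙 i₀)⟩
  exact exists_stage_equations (A₀ := A₀) (A := A) (B₀ := B₀) G hdir hlift heq rs J hJ h hId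

include hc in
/-- A transversally regular chart over the limit comes from a stage. -/
theorem exists_stage_chart {X₀ : Scheme.{u}} (g₀ : X₀ ⟶ D.obj i₀) [LocallyOfFinitePresentation g₀]
    (fs : List Γ(X₀, ⊤)) {V₀ : (D.obj i₀).Opens} (hV₀ : IsAffineOpen V₀) {U₀ : X₀.Opens} (hU₀ : IsAffineOpen U₀)
    (eU : U₀ ≤ g₀ ⁻¹ᵁ V₀) (h : ChartTrans g₀ fs (c.π.app i₀) V₀ U₀) :
    ∃ k : Over i₀, ChartTrans g₀ fs (D.map k.hom) V₀ U₀ := by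
  classical
  haveI := isAffineHom_π_app D c hc i₀
  letI : Algebra Γ(D.obj i₀, V₀) Γ(X₀, U₀) := (g₀.appLE V₀ U₀ eU).hom.toAlgebra
  haveI : Algebra.FinitePresentation Γ(D.obj i₀, V₀) Γ(X₀, U₀) :=
    HasRingHomProperty.appLE @LocallyOfFinitePresentation g₀ ‹_› ⟨V₀, hV₀⟩ ⟨U₀, hU₀⟩ eU
  letI : Algebra Γ(D.obj i₀, V₀) Γ(c.pt, c.π.app i₀ ⁻¹ᵁ V₀) :=
    ((c.π.app i₀).appLE V₀ (c.π.app i₀ ⁻¹ᵁ V₀) le_rfl).hom.toAlgebra
  letI (k : Over i₀) : Algebra Γ(D.obj i₀, V₀) Γ(D.obj k.left, D.map k.hom ⁻¹ᵁ V₀) :=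
    ((D.map k.hom).appLE V₀ (D.map k.hom ⁻¹ᵁ V₀) le_rfl).hom.toAlgebra
  obtain ⟨k, hk, -⟩ := exists_stage_tensor hc hV₀ Γ(X₀, U₀) rfl (fun _ => rfl) _ (Ideal.ofList _)
    ⟨(fs.map (fun f => (X₀.presheaf.map (homOfLE (le_top : U₀ ≤ ⊤)).op).hom f)).toFinset, by rw [List.coe_toFinset]⟩
    ((chartTrans_iff (S₁ := c.pt) g₀ fs (c.π.app i₀) hV₀ hU₀ eU rfl rfl).1 h) (Ideal.map_ofList _ _)
  exact ⟨k, (chartTrans_iff g₀ fs (D.map k.hom) hV₀ hU₀ eU rfl rfl).2 hk⟩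

include hc in
/-- **Transversal regularity of sections at the limit is transversal regularity at some stage.** -/
theorem main {X₀ : Scheme.{u}} (g₀ : X₀ ⟶ D.obj i₀) [CompactSpace X₀] [LocallyOfFinitePresentation g₀]
    (fs : List Γ(X₀, ⊤)) :
    (∀ x, TransAt (pullback.snd g₀ (c.π.app i₀)) (fs.map (pullback.fst g₀ (c.π.app i₀)).appTop.hom) x) ↔
      ∃ (j : I) (φ : j ⟶ i₀),
        ∀ x, TransAt (pullback.snd g₀ (D.map φ)) (fs.map (pullback.fst g₀ (D.map φ)).appTop.hom) x := by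
  classical
  haveI := isAffineHom_π_app D c hc i₀
  have hchart : ∀ z : X₀, ∃ (V₀ : (D.obj i₀).Opens) (U₀ : X₀.Opens),
      IsAffineOpen V₀ ∧ IsAffineOpen U₀ ∧ z ∈ U₀ ∧ U₀ ≤ g₀ ⁻¹ᵁ V₀ := fun z => by
    obtain ⟨V, hV, hzV, -⟩ := exists_isAffineOpen_mem_and_subset (show g₀ z ∈ (⊤ : (D.obj i₀).Opens) from trivial)
    obtain ⟨U, hU, hzU, e⟩ := exists_isAffineOpen_mem_and_subset (show z ∈ g₀ ⁻¹ᵁ V from hzV)
    exact ⟨V, U, hV, hU, hzU, e⟩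
  choose V₀ U₀ hV₀ hU₀ hzU eU using hchart
  constructor
  · intro h
    obtain ⟨t, ht⟩ := CompactSpace.elim_nhds_subcover (fun z : X₀ => (U₀ z : Set X₀))
      (fun z => (U₀ z).2.mem_nhds (hzU z))
    choose k hk using fun z : {z // z ∈ t} =>
      exists_stage_chart hc g₀ fs (hV₀ z.1) (hU₀ z.1) (eU z.1) (fun x _ => h x)
    obtain ⟨l, -, φ, -⟩ := IsCofiltered.wideCospan (I := {z // z ∈ t}) (i := Over.mk (𝟙 i₀))
      (fun z => (Over.homMk (k z).hom : k z ⟶ Over.mk (𝟙 i₀)))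
    refine ⟨l.left, l.hom, transAt_of_charts g₀ fs (D.map l.hom) (fun z : {z // z ∈ t} => V₀ z.1) (fun z => U₀ z.1)
      (fun z => eU z.1) (fun x => ?_) fun z => ?_⟩
    · obtain ⟨z, hzt, hxz⟩ := Set.mem_iUnion₂.1 (ht.ge (Set.mem_univ x))
      exact ⟨⟨z, hzt⟩, hxz⟩
    · exact chartTrans_of_hom g₀ fs (D.map (k z).hom) (D.map l.hom) (D.map (φ z).left)
        (by rw [← D.map_comp, Over.w]) (hV₀ z.1) (hU₀ z.1) (eU z.1) (hk z)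
  · rintro ⟨j, φ, h⟩
    exact transAt_of_charts g₀ fs (c.π.app i₀) V₀ U₀ eU (fun x => ⟨x, hzU x⟩) fun z =>
      chartTrans_of_hom g₀ fs (D.map φ) (c.π.app i₀) (c.π.app j) (c.w φ) (hV₀ z) (hU₀ z) (eU z)
        (fun x _ => h x)

end Limit

end GrothLib.TransReg13
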