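import Groth.Agent.Lib.LimReg10.Weakly
import Groth.Agent.Lib.FlatDesc.Algebra
import Groth.Agent.Lib.TransReg13.Algebra
import Groth.Prelude.Def_RegImm

/-!
# Transversally regular sections, pointwise
-/

set_option autoImplicit false
set_option backward.isDefEq.respectTransparency false
set_option linter.all false
set_option maxHeartbeats 1000000

universe u

open CategoryTheory Limits AlgebraicGeometry RingTheory.Sequence TopologicalSpace TensorProduct

noncomputable section

namespace GrothLib.TransReg13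

/-- A sequence in a local ring transversally regular relative to the local ring of the base. -/
def TransStalk {X T : Scheme.{u}} (g : X ⟶ T) (x : X) (l : List (X.presheaf.stalk x)) : Prop :=
  IsWeaklyRegular (X.presheaf.stalk x) l ∧ ∀ j, j ≤ l.length →
    letI := (g.stalkMap x).hom.toAlgebra
    Module.Flat (T.presheaf.stalk (g x)) (X.presheaf.stalk x ⧸ Ideal.ofList (l.take j))

/-- Global sections transversally regular at a point, relative to the base. -/
def TransAt {X T : Scheme.{u}} (g : X ⟶ T) (fs : List Γ(X, ⊤)) (x : X) : Prop :=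
  TransStalk g x (fs.map (X.presheaf.germ ⊤ x trivial).hom)

variable {X T : Scheme.{u}} (g : X ⟶ T) (fs : List Γ(X, ⊤))

/-- On an affine chart, transversal regularity is a condition on the germs. -/
theorem isTransRegularSeq_iff_transStalk {U : X.Opens} (hU : IsAffineOpen U) {V : T.Opens} (hV : IsAffineOpen V)
    (e : U ≤ g ⁻¹ᵁ V) (rs : List Γ(X, U)) :
    @RegImm.IsTransRegularSeq Γ(T, V) Γ(X, U) _ _ (g.appLE V U e).hom.toAlgebra rs ↔
      ∀ (x : X) (hx : x ∈ U), TransStalk g x (rs.map (X.presheaf.germ U x hx).hom) := by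
  let A : Type u := Γ(T, V)
  let B : Type u := Γ(X, U)
  letI : Algebra A B := (g.appLE V U e).hom.toAlgebra
  show IsWeaklyRegular B rs ∧ (∀ j, j ≤ rs.length → Module.Flat A (B ⧸ Ideal.ofList (rs.take j))) ↔ _
  -- the local facts at a point of the chart
  have key : ∀ (x : X) (hx : x ∈ U) (j : ℕ),
      letI : Algebra B (X.presheaf.stalk x) := (X.presheaf.germ U x hx).hom.toAlgebra
      letI : Algebra A (X.presheaf.stalk x) :=
        ((X.presheaf.germ U x hx).hom.comp (g.appLE V U e).hom).toAlgebra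
      letI : Algebra (T.presheaf.stalk (g x)) (X.presheaf.stalk x) := (g.stalkMap x).hom.toAlgebra
      Module.Flat A (X.presheaf.stalk x ⊗[B] (B ⧸ Ideal.ofList (rs.take j))) ↔
        Module.Flat (T.presheaf.stalk (g x))
          (X.presheaf.stalk x ⧸ Ideal.ofList ((rs.map (X.presheaf.germ U x hx).hom).take j)) := by
    intro x hx j
    let O : Type u := X.presheaf.stalk x
    let O' : Type u := T.presheaf.stalk (g x)
    letI : Algebra B O := (X.presheaf.germ U x hx).hom.toAlgebra
    letI : Algebra A O := ((X.presheaf.germ U x hx).hom.comp (g.appLE V U e).hom).toAlgebra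
    haveI : IsScalarTower A B O := IsScalarTower.of_algebraMap_eq' rfl
    letI : Algebra O' O := (g.stalkMap x).hom.toAlgebra
    letI : Algebra A O' := (T.presheaf.germ V (g x) (e hx)).hom.toAlgebra
    haveI : IsScalarTower A O' O := IsScalarTower.of_algebraMap_eq fun a => by
      show X.presheaf.germ U x hx (g.appLE V U e a) = g.stalkMap x (T.presheaf.germ V (g x) (e hx) a)
      rw [Scheme.Hom.germ_stalkMap_apply, Scheme.Hom.appLE, ConcreteCategory.comp_apply]
      exact TopCat.Presheaf.germ_res_apply X.presheaf (homOfLE e) x hx (g.app V a)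
    haveI : IsLocalization.AtPrime O' (hV.primeIdealOf ⟨g x, e hx⟩).asIdeal := hV.isLocalization_stalk ⟨g x, e hx⟩
    let K := Ideal.ofList ((rs.map (X.presheaf.germ U x hx).hom).take j)
    have hK : (Ideal.ofList (rs.take j)).map (algebraMap B O) = K := by
      rw [Ideal.map_ofList, List.map_take]
      rfl
    let ε : O ⊗[B] (B ⧸ Ideal.ofList (rs.take j)) ≃ₗ[O] O ⧸ K :=
      (Algebra.TensorProduct.quotIdealMapEquivTensorQuot O (Ideal.ofList (rs.take j))).symm.toLinearEquiv ≪≫ₗ
        Submodule.quotEquivOfEq _ _ hK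
    haveI : IsScalarTower A O (O ⊗[B] (B ⧸ Ideal.ofList (rs.take j))) := TensorProduct.isScalarTower_left
    show Module.Flat A (O ⊗[B] (B ⧸ Ideal.ofList (rs.take j))) ↔ Module.Flat O' (O ⧸ K)
    rw [Module.flat_iff_of_isLocalization O' (hV.primeIdealOf ⟨g x, e hx⟩).asIdeal.primeCompl]
    exact ⟨fun _ => Module.Flat.of_linearEquiv (ε.restrictScalars A).symm,
      fun _ => Module.Flat.of_linearEquiv (ε.restrictScalars A)⟩
  constructor
  · rintro ⟨hreg, hfl⟩ x hx
    letI : Algebra B (X.presheaf.stalk x) := (X.presheaf.germ U x hx).hom.toAlgebra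
    haveI : IsLocalization.AtPrime (X.presheaf.stalk x) (hU.primeIdealOf ⟨x, hx⟩).asIdeal :=
      hU.isLocalization_stalk ⟨x, hx⟩
    refine ⟨?_, fun j hj => (key x hx j).1 ?_⟩
    · exact IsWeaklyRegular.of_isLocalization (S := X.presheaf.stalk x)
        (hU.primeIdealOf ⟨x, hx⟩).asIdeal.primeCompl hreg
    · letI : Algebra A (X.presheaf.stalk x) :=
        ((X.presheaf.germ U x hx).hom.comp (g.appLE V U e).hom).toAlgebra
      haveI : IsScalarTower A B (X.presheaf.stalk x) := IsScalarTower.of_algebraMap_eq' rfl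
      haveI : Module.Flat B (X.presheaf.stalk x) :=
        IsLocalization.flat _ (hU.primeIdealOf ⟨x, hx⟩).asIdeal.primeCompl
      haveI : Module.Flat A (B ⧸ Ideal.ofList (rs.take j)) := hfl j (by simpa using hj)
      exact FlatDesc.flat_tensor
  · intro h
    refine ⟨?_, fun j hj => ?_⟩
    · rw [GrothLib.RegSeqLoc.isWeaklyRegular_iff_mem]
      intro i hi a ha
      by_contra hna
      let K : Ideal B := Submodule.comap (LinearMap.mulRight B a) (Ideal.ofList (rs.take i))
      have hK : K ≠ ⊤ := fun ht => hna (by simpa [K] using (Ideal.eq_top_iff_one K).1 ht)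
      obtain ⟨P, hP, hKP⟩ := Ideal.exists_le_maximal K hK
      let y : PrimeSpectrum B := ⟨P, hP.isPrime⟩
      have hy : hU.fromSpec y ∈ U := hU.range_fromSpec.le ⟨y, rfl⟩
      letI : Algebra B (X.presheaf.stalk (hU.fromSpec y)) :=
        TopCat.Presheaf.algebra_section_stalk X.presheaf (⟨hU.fromSpec y, hy⟩ : U)
      haveI : IsLocalization.AtPrime (X.presheaf.stalk (hU.fromSpec y)) y.asIdeal := hU.isLocalization_stalk' y hy
      have hreg := (h _ hy).1
      rw [GrothLib.RegSeqLoc.isWeaklyRegular_iff_mem] at hreg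
      have h1 := Ideal.mem_map_of_mem (X.presheaf.germ U (hU.fromSpec y) hy).hom ha
      rw [Ideal.map_ofList, List.map_take, map_mul] at h1
      have h2 := hreg i (by simpa using hi) _ (by rw [List.getElem_map]; exact h1)
      rw [← List.map_take, ← Ideal.map_ofList] at h2
      obtain ⟨s, hs, hsa⟩ := (IsLocalization.algebraMap_mem_map_algebraMap_iff y.asIdeal.primeCompl
        (X.presheaf.stalk (hU.fromSpec y)) _ a).1 h2
      exact hs (hKP hsa)
    · let M := B ⧸ Ideal.ofList (rs.take j)
      refine Module.flat_of_isLocalized_maximal (R := A) (S := B) (M := M)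
        (fun P _ => LocalizedModule P.primeCompl M) (fun P _ => LocalizedModule.mkLinearMap P.primeCompl M)
        fun P hP => ?_
      let y : PrimeSpectrum B := ⟨P, hP.isPrime⟩
      have hy : hU.fromSpec y ∈ U := hU.range_fromSpec.le ⟨y, rfl⟩
      letI : Algebra B (X.presheaf.stalk (hU.fromSpec y)) := (X.presheaf.germ U (hU.fromSpec y) hy).hom.toAlgebra
      letI : Algebra A (X.presheaf.stalk (hU.fromSpec y)) :=
        ((X.presheaf.germ U (hU.fromSpec y) hy).hom.comp (g.appLE V U e).hom).toAlgebra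
      haveI : IsScalarTower A B (X.presheaf.stalk (hU.fromSpec y)) := IsScalarTower.of_algebraMap_eq' rfl
      haveI : IsLocalization.AtPrime (X.presheaf.stalk (hU.fromSpec y)) y.asIdeal := hU.isLocalization_stalk' y hy
      haveI : IsLocalization P.primeCompl (X.presheaf.stalk (hU.fromSpec y)) :=
        hU.isLocalization_stalk' y hy
      haveI : Module.Flat A (X.presheaf.stalk (hU.fromSpec y) ⊗[B] M) :=
        (key _ hy j).2 ((h _ hy).2 j (by simpa using hj))
      let ι₁ := IsLocalizedModule.iso P.primeCompl (TensorProduct.mk B (X.presheaf.stalk (hU.fromSpec y)) M 1)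
      exact Module.Flat.of_linearEquiv (ι₁.restrictScalars A)

/-- On an affine chart, transversal regularity is pointwise. -/
theorem isTransRegularSeq_iff_transAt {U : X.Opens} (hU : IsAffineOpen U) {V : T.Opens} (hV : IsAffineOpen V)
    (e : U ≤ g ⁻¹ᵁ V) :
    @RegImm.IsTransRegularSeq Γ(T, V) Γ(X, U) _ _ (g.appLE V U e).hom.toAlgebra
        (fs.map (fun f => (X.presheaf.map (homOfLE (le_top : U ≤ ⊤)).op).hom f)) ↔
      ∀ x ∈ U, TransAt g fs x := by
  rw [isTransRegularSeq_iff_transStalk g hU hV e]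
  refine forall₂_congr fun x hx => ?_
  rw [LimReg10.germ_res_map fs x hx]
  rfl

/-- Transversal regularity restricts to smaller charts, over any chart of the base. -/
theorem isTransRegularSeq_restrict {U : X.Opens} (hU : IsAffineOpen U) {V : T.Opens} (hV : IsAffineOpen V)
    (e : U ≤ g ⁻¹ᵁ V) {W : X.Opens} (hW : IsAffineOpen W) (hWU : W ≤ U) {V' : T.Opens} (hV' : IsAffineOpen V')
    (e' : W ≤ g ⁻¹ᵁ V') (rs : List Γ(X, U))
    (h : @RegImm.IsTransRegularSeq Γ(T, V) Γ(X, U) _ _ (g.appLE V U e).hom.toAlgebra rs) :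
    @RegImm.IsTransRegularSeq Γ(T, V') Γ(X, W) _ _ (g.appLE V' W e').hom.toAlgebra
      (rs.map (X.presheaf.map (homOfLE hWU).op).hom) := by
  rw [isTransRegularSeq_iff_transStalk g hU hV e] at h
  rw [isTransRegularSeq_iff_transStalk g hW hV' e']
  intro x hx
  rw [List.map_map, show rs.map ((X.presheaf.germ W x hx).hom ∘ (X.presheaf.map (homOfLE hWU).op).hom) =
    rs.map (X.presheaf.germ U x (hWU hx)).hom from List.map_congr_left fun a _ =>
      TopCat.Presheaf.germ_res_apply X.presheaf _ x hx a]
  exact h x (hWU hx)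

/-- Transversal regularity on all affine charts is pointwise. -/
theorem forall_chart_iff :
    (∀ (U : X.affineOpens) (V : T.affineOpens) (e : U.1 ≤ g ⁻¹ᵁ V.1),
      @RegImm.IsTransRegularSeq Γ(T, V.1) Γ(X, U.1) _ _ (g.appLE V.1 U.1 e).hom.toAlgebra
        (fs.map (fun f => (X.presheaf.map (homOfLE (le_top : U.1 ≤ ⊤)).op).hom f))) ↔
      ∀ x, TransAt g fs x := by
  refine ⟨fun h x => ?_, fun h U V e => (isTransRegularSeq_iff_transAt g fs U.2 V.2 e).2 fun x _ => h x⟩
  obtain ⟨V, hV, hxV, -⟩ := exists_isAffineOpen_mem_and_subset (show g x ∈ (⊤ : T.Opens) from trivial)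
  obtain ⟨U, hU, hxU, e⟩ := exists_isAffineOpen_mem_and_subset (show x ∈ g ⁻¹ᵁ V from hxV)
  exact (isTransRegularSeq_iff_transAt g fs hU hV e).1 (h ⟨U, hU⟩ ⟨V, hV⟩ e) x hxU

end GrothLib.TransReg13
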